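/-
Groups with a cyclic Sylow `p`-subgroup all of whose `p'`-subgroups are abelian: elementary facts.
-/
import Mathlib
import Cfsg.Agent.Lib.PComplement
import Cfsg.Agent.Lib.TIHall.Basic

set_option autoImplicit false

open Subgroup
open scoped Pointwise

namespace CfsgLib.CycSyl

universe u

variable {G : Type u} [Group G] [Finite G]

/-- `p'`-subgroups are abelian. -/
def AbelianPPrime (p : ℕ) (G : Type u) [Group G] : Prop :=
  ∀ H : Subgroup G, ¬ p ∣ Nat.card H → ∀ a ∈ H, ∀ b ∈ H, a * b = b * a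

variable {p : ℕ} [hp : Fact p.Prime]

/-- An element is the product of a `p`-element and a `p'`-element, both powers of it. -/
theorem split (g : G) : ∃ a b : G, a * b = g ∧ a ∈ zpowers g ∧ b ∈ zpowers g ∧
    (∃ k : ℕ, a ^ p ^ k = 1) ∧ (orderOf b).Coprime p := by
  set n := orderOf g with hn
  have hn0 : n ≠ 0 := (orderOf_pos g).ne'
  set q := p ^ n.factorization p with hq
  set m := n / q with hm
  have hqm : q * m = n := Nat.ordProj_mul_ordCompl_eq_self n p
  have hpm : p.Coprime m := (Nat.Prime.coprime_iff_not_dvd hp.out).2 (Nat.not_dvd_ordCompl hp.out hn0)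
  have hcop : q.Coprime m := hpm.pow_left _
  obtain ⟨a, ha1, ha2⟩ := Nat.chineseRemainder hcop 1 0
  obtain ⟨b, hb1, hb2⟩ := Nat.chineseRemainder hcop 0 1
  refine ⟨g ^ a, g ^ b, ?_, pow_mem (mem_zpowers g) a, pow_mem (mem_zpowers g) b, ⟨n.factorization p, ?_⟩, ?_⟩
  · have h : a + b ≡ 1 [MOD n] := by
      rw [← hqm]
      exact (Nat.modEq_and_modEq_iff_modEq_mul hcop).1
        ⟨by simpa using ha1.add hb1, by simpa using ha2.add hb2⟩
    rw [← pow_add]
    conv_rhs => rw [← pow_one g]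
    exact pow_eq_pow_iff_modEq.2 h
  · obtain ⟨c, hc⟩ := Nat.modEq_zero_iff_dvd.1 ha2
    rw [← hq, ← pow_mul, hc, show m * c * q = q * m * c by ring, hqm, pow_mul, hn, pow_orderOf_eq_one, one_pow]
  · have hd : orderOf (g ^ b) ∣ m := by
      rw [orderOf_dvd_iff_pow_eq_one, ← pow_mul]
      obtain ⟨c, hc⟩ := Nat.modEq_zero_iff_dvd.1 hb1
      rw [hc, show q * c * m = q * m * c by ring, hqm, pow_mul, hn, pow_orderOf_eq_one, one_pow]
    exact (hpm.coprime_dvd_right hd).symm

/-- A coprime automorphism of an abelian `q`-group fixing all elements of order `q` is trivial. -/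
theorem fix_of_fix_omega {q : ℕ} [Fact q.Prime] {A : Subgroup G} (hA : IsPGroup q A)
    (hab : ∀ a ∈ A, ∀ b ∈ A, a * b = b * a) {g : G} (hg : (orderOf g).Coprime q)
    (hn : ∀ a ∈ A, g * a * g⁻¹ ∈ A) (hfix : ∀ a ∈ A, a ^ q = 1 → g * a = a * g) :
    ∀ a ∈ A, g * a = a * g := by
  suffices key : ∀ (k : ℕ), ∀ a ∈ A, a ^ q ^ k = 1 → g * a = a * g by
    intro a ha
    obtain ⟨k, hk⟩ := hA ⟨a, ha⟩
    exact key k a ha (congrArg Subtype.val hk)
  intro k
  induction k with
  | zero => intro a _ h; rw [pow_zero, pow_one] at h; rw [h, mul_one, one_mul]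
  | succ k ih =>
    intro a ha hk
    set c := a⁻¹ * (g * a * g⁻¹) with hc
    have hcA : c ∈ A := A.mul_mem (A.inv_mem ha) (hn a ha)
    have hgac : g * a * g⁻¹ = a * c := by rw [hc]; group
    have haq : g * a ^ q * g⁻¹ = a ^ q := by
      rw [ih (a ^ q) (A.pow_mem ha q) (by rw [← pow_mul, ← pow_succ']; exact hk), mul_inv_cancel_right]
    have hcq : c ^ q = 1 := by
      have h1 : (a * c) ^ q = a ^ q := by rw [← hgac, conj_pow, haq]
      rw [(show Commute a c from hab a ha c hcA).mul_pow] at h1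
      exact mul_eq_left.mp h1
    have hgc := hfix c hcA hcq
    have hiter : ∀ m : ℕ, g ^ m * a * (g ^ m)⁻¹ = a * c ^ m := by
      intro m
      induction m with
      | zero => simp
      | succ m ihm =>
        calc g ^ (m + 1) * a * (g ^ (m + 1))⁻¹ = g * (g ^ m * a * (g ^ m)⁻¹) * g⁻¹ := by rw [pow_succ']; group
          _ = (g * a * g⁻¹) * (g * c ^ m) * g⁻¹ := by rw [ihm]; group
          _ = (a * c) * (c ^ m * g) * g⁻¹ := by rw [hgac, ((show Commute g c from hgc).pow_right m).eq]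
          _ = a * c ^ (m + 1) := by rw [pow_succ']; group
    have h1 := hiter (orderOf g)
    rw [pow_orderOf_eq_one, one_mul, inv_one, mul_one, left_eq_mul] at h1
    have hc1 : c = 1 := orderOf_eq_one_iff.mp
      (Nat.eq_one_of_dvd_coprimes hg (orderOf_dvd_of_pow_eq_one h1) (orderOf_dvd_of_pow_eq_one hcq))
    rw [hc1, mul_one] at hgac
    exact mul_inv_eq_iff_eq_mul.mp hgac

omit [Finite G] in
theorem comm_of_cyclic {P : Subgroup G} (hc : IsCyclic P) : ∀ a ∈ P, ∀ b ∈ P, a * b = b * a :=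
  fun a ha b hb => congrArg Subtype.val (IsCyclic.commGroup.mul_comm (⟨a, ha⟩ : P) ⟨b, hb⟩)

/-- In a cyclic subgroup there is only one subgroup of order `p`. -/
theorem mem_zpowers_of_cyclic {P : Subgroup G} (hc : IsCyclic P) {z a : G} (hz : z ∈ P)
    (hzp : orderOf z = p) (ha : a ∈ P) (hap : a ^ p = 1) : a ∈ zpowers z := by
  classical
  have : Fintype P := Fintype.ofFinite P
  set z' : P := ⟨z, hz⟩ with hz'
  have h1 : ((zpowers z' : Subgroup P) : Set P) ⊆ {x : P | x ^ p = 1} := by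
    rintro _ ⟨n, rfl⟩
    show (z' ^ n) ^ p = 1
    rw [← zpow_natCast, ← zpow_mul, mul_comm, zpow_mul, zpow_natCast,
      show z' ^ p = 1 from Subtype.ext (by rw [SubgroupClass.coe_pow, ← hzp]; exact pow_orderOf_eq_one z), one_zpow]
  have h2 := Set.eq_of_subset_of_ncard_le h1 (by
    rw [← Nat.card_coe_set_eq, ← Nat.card_coe_set_eq]
    show _ ≤ Nat.card ↥(zpowers z')
    rw [Nat.card_zpowers, hz', Subgroup.orderOf_mk, hzp, Nat.card_eq_fintype_card, Fintype.card_subtype]
    exact IsCyclic.card_pow_eq_one_le hp.out.pos)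
  have h3 : (⟨a, ha⟩ : P) ∈ ((zpowers z' : Subgroup P) : Set P) := by
    rw [h2]; exact Subtype.ext (by rw [SubgroupClass.coe_pow]; exact hap)
  obtain ⟨n, hn⟩ := h3
  exact ⟨n, by simpa using congrArg Subtype.val hn⟩

/-- A non-trivial `p`-group element has a power of order `p`. -/
theorem exists_pow_order_p {P : Subgroup G} (hP : IsPGroup p P) {z : G} (hz : z ∈ P) (hz1 : z ≠ 1) :
    ∃ i : ℕ, orderOf (z ^ i) = p := by
  obtain ⟨k, hk⟩ := hP ⟨z, hz⟩
  obtain ⟨j, -, hj⟩ := (Nat.dvd_prime_pow hp.out).mp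
    (orderOf_dvd_of_pow_eq_one (congrArg Subtype.val hk : z ^ p ^ k = 1))
  refine ⟨orderOf z / p, orderOf_pow_orderOf_div (orderOf_pos z).ne' ?_⟩
  rcases j with _ | j
  · exact absurd (orderOf_eq_one_iff.mp (by rw [hj, pow_zero])) hz1
  · rw [hj, pow_succ]; exact dvd_mul_left p _

/-- A `p'`-element normalising a cyclic `p`-group and centralising a non-trivial element centralises it. -/
theorem cyclic_fix {P : Subgroup G} (hP : IsPGroup p P) (hc : IsCyclic P) {g z : G}
    (hg : (orderOf g).Coprime p) (hn : ∀ a ∈ P, g * a * g⁻¹ ∈ P) (hz : z ∈ P) (hz1 : z ≠ 1)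
    (hgz : g * z = z * g) : ∀ a ∈ P, g * a = a * g := by
  obtain ⟨i, hi⟩ := exists_pow_order_p hP hz hz1
  refine fix_of_fix_omega hP (comm_of_cyclic hc) hg hn fun a ha hap => ?_
  obtain ⟨n, hn⟩ := mem_zpowers_of_cyclic hc (P.pow_mem hz i) hi ha hap
  rw [← hn]
  exact ((show Commute g z from hgz).pow_right i).zpow_right n

/-- Two `p'`-subgroups, one normalising the other, generate a `p'`-subgroup. -/
theorem not_dvd_card_sup {X Y : Subgroup G} (h : X ≤ normalizer (Y : Set G))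
    (hX : ¬ p ∣ Nat.card X) (hY : ¬ p ∣ Nat.card Y) : ¬ p ∣ Nat.card (X ⊔ Y : Subgroup G) := fun hd =>
  (hp.out.dvd_mul.mp (hd.trans (TIHall.card_sup_dvd_of_le_normalizer h))).elim hX hY

theorem not_dvd_card_zpowers {g : G} (hg : (orderOf g).Coprime p) : ¬ p ∣ Nat.card (zpowers g) := by
  rw [Nat.card_zpowers]; exact (Nat.Prime.coprime_iff_not_dvd hp.out).mp hg.symm

theorem not_dvd_card_of_isPGroup {q : ℕ} [hq : Fact q.Prime] (hne : p ≠ q) {Q : Subgroup G}
    (hQ : IsPGroup q Q) : ¬ p ∣ Nat.card Q := fun hd => by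
  obtain ⟨k, hk⟩ := hQ.exists_card_eq
  rw [hk] at hd
  exact hne ((Nat.prime_dvd_prime_iff_eq hp.out hq.out).mp (hp.out.dvd_of_dvd_pow hd))

/-- Conjugation by an element of a subgroup's normaliser preserves it. -/
theorem conj_mem_of_normalizer {H : Subgroup G} {g a : G} (hg : g ∈ normalizer (H : Set G))
    (ha : a ∈ H) : g * a * g⁻¹ ∈ H :=
  (Subgroup.mem_normalizer_iff.mp hg a).mp ha

end CfsgLib.CycSyl
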