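/-
The structure of a minimal (simple) group with cyclic Sylow `p`-subgroup and abelian `p'`-subgroups.
-/
import Mathlib
import Cfsg.Agent.Lib.CyclicSylowAbelian.Basic

set_option autoImplicit false

open Subgroup Cfsg
open scoped Pointwise IsMulCommutative

namespace CfsgLib.CycSyl

universe u

variable {G : Type u} [Group G] [Finite G] {p : ℕ} [hp : Fact p.Prime]

/-- The hypotheses on a minimal counterexample. -/
structure Hyp (p : ℕ) (G : Type u) [Group G] : Prop where
  cyc : ∀ P : Sylow p G, IsCyclic (P : Subgroup G)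
  hab : AbelianPPrime p G
  prop : ∀ (P : Sylow p G) (H : Subgroup G), H ≠ ⊤ → (P : Subgroup G) ≤ H →
    HasNormalPComplement p H ∨ ((P : Subgroup G).subgroupOf H).Normal
  simple : ∀ N : Subgroup G, N.Normal → N = ⊥ ∨ N = ⊤
  notp : ¬ HasNormalPComplement p G

/-- A `p`-element normalising a Sylow subgroup lies in it. -/
theorem mem_sylow {q : ℕ} [Fact q.Prime] (Q : Sylow q G) {a : G} (ha : a ∈ normalizer ((Q : Subgroup G) : Set G))
    (hq : ∃ k : ℕ, a ^ q ^ k = 1) : a ∈ (Q : Subgroup G) := by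
  obtain ⟨k, hk⟩ := hq
  have hA : IsPGroup q (zpowers a) := fun x => ⟨k, by
    obtain ⟨n, hn⟩ := x.2
    refine Subtype.ext ?_
    rw [SubgroupClass.coe_pow, OneMemClass.coe_one, ← hn]
    show (a ^ n) ^ q ^ k = 1
    rw [← zpow_natCast, ← zpow_mul, mul_comm, zpow_mul, zpow_natCast, hk, one_zpow]⟩
  have := Q.is_maximal' (IsPGroup.to_sup_of_normal_right' hA Q.2 (Subgroup.zpowers_le.mpr ha)) le_sup_right
  exact this ▸ (le_sup_left : zpowers a ≤ zpowers a ⊔ (Q : Subgroup G)) (mem_zpowers a)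

omit [Finite G] in
theorem eq_one_of_pow {a : G} (h : ∃ k : ℕ, a ^ p ^ k = 1) (h' : (orderOf a).Coprime p) : a = 1 := by
  obtain ⟨k, hk⟩ := h
  exact orderOf_eq_one_iff.mp (Nat.eq_one_of_dvd_coprimes (h'.pow_right k) dvd_rfl (orderOf_dvd_of_pow_eq_one hk))

omit [Finite G] hp in
theorem exists_pow_of_mem (P : Sylow p G) {a : G} (ha : a ∈ (P : Subgroup G)) : ∃ k : ℕ, a ^ p ^ k = 1 := by
  obtain ⟨k, hk⟩ := P.2 ⟨a, ha⟩
  exact ⟨k, congrArg Subtype.val hk⟩

variable (h : Hyp p G)
include h

theorem sylow_ne_bot (P : Sylow p G) : (P : Subgroup G) ≠ ⊥ := by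
  intro e
  refine h.notp (hasNormalPComplement_of_normalizer_le_centralizer P fun g _ => ?_)
  rw [Subgroup.mem_centralizer_iff]
  intro a ha
  rw [SetLike.mem_coe, e, Subgroup.mem_bot] at ha
  rw [ha, one_mul, mul_one]

theorem not_comm : ¬ ∀ a b : G, a * b = b * a := by
  intro hc
  obtain ⟨P⟩ : Nonempty (Sylow p G) := inferInstance
  exact h.notp (hasNormalPComplement_of_normalizer_le_centralizer P fun g _ =>
    Subgroup.mem_centralizer_iff.mpr fun a _ => hc a g)

theorem centralizer_ne_top {x : G} (hx : x ≠ 1) : centralizer ({x} : Set G) ≠ ⊤ := by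
  intro e
  have hxc : x ∈ center G := by
    rw [Subgroup.mem_center_iff]
    exact fun g => Subgroup.mem_centralizer_singleton_iff.mp (e ▸ Subgroup.mem_top g)
  rcases h.simple (center G) inferInstance with e' | e'
  · exact hx (by rwa [e', Subgroup.mem_bot] at hxc)
  · exact not_comm h fun a b => (Subgroup.mem_center_iff.mp (e' ▸ Subgroup.mem_top a) b).symm

/-- A proper subgroup containing `N(P)` is contained in it. -/
theorem le_normalizer_of_ne_top (P : Sylow p G) {H : Subgroup G} (hH : H ≠ ⊤)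
    (hle : normalizer ((P : Subgroup G) : Set G) ≤ H) : H ≤ normalizer ((P : Subgroup G) : Set G) := by
  have hPH : (P : Subgroup G) ≤ H := Subgroup.le_normalizer.trans hle
  rcases h.prop P H hH hPH with hc | hn
  · exfalso
    refine h.notp (hasNormalPComplement_of_normalizer_le_centralizer P fun g hg => ?_)
    obtain ⟨a, b, hab, ha, hb, hap, hbp⟩ := split (p := p) g
    have haN := Subgroup.zpowers_le.mpr hg ha
    have hbN := Subgroup.zpowers_le.mpr hg hb
    have haP := mem_sylow P haN hap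
    rw [← hab]
    refine Subgroup.mem_centralizer_iff.mpr fun x hx => ?_
    have e1 : x * a = a * x := comm_of_cyclic (h.cyc P) x hx a haP
    have e2 : x * b = b * x := by
      have hbK : (⟨b, hle hbN⟩ : H) ∈ pPrimeCore p H :=
        mem_pPrimeCore_of_hasNormalPComplement hc (by rw [Subgroup.orderOf_mk]; exact hbp)
      have hcK : (⟨x, hPH hx⟩ : H) * ⟨b, hle hbN⟩ * (⟨x, hPH hx⟩ : H)⁻¹ * (⟨b, hle hbN⟩ : H)⁻¹ ∈ pPrimeCore p H :=
        Subgroup.mul_mem _ ((inferInstance : (pPrimeCore p H).Normal).conj_mem _ hbK _) (Subgroup.inv_mem _ hbK)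
      have hord := (card_pPrimeCore_coprime (G := H) p).coprime_dvd_left (Subgroup.orderOf_dvd_natCard _ hcK)
      rw [← Subgroup.orderOf_coe] at hord
      have hmemP : x * b * x⁻¹ * b⁻¹ ∈ (P : Subgroup G) := by
        rw [show x * b * x⁻¹ * b⁻¹ = x * (b * x⁻¹ * b⁻¹) by group]
        exact (P : Subgroup G).mul_mem hx (conj_mem_of_normalizer hbN ((P : Subgroup G).inv_mem hx))
      have h1 := eq_one_of_pow (exists_pow_of_mem P hmemP) hord
      exact mul_inv_eq_iff_eq_mul.mp (mul_inv_eq_one.mp h1)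
    rw [← mul_assoc, e1, mul_assoc, e2, mul_assoc]
  · exact (Subgroup.normal_subgroupOf_iff_le_normalizer hPH).mp hn

/-- An element moving a non-trivial element of `P` inside the cyclic group it generates normalises `P`. -/
theorem mem_normalizer_of_conj (P : Sylow p G) {z g : G} (hz : z ∈ (P : Subgroup G)) (hz1 : z ≠ 1)
    (hg : g * z * g⁻¹ ∈ zpowers z) : g ∈ normalizer ((P : Subgroup G) : Set G) := by
  obtain ⟨i, hi⟩ := exists_pow_order_p P.2 hz hz1
  set w := z ^ i with hw
  set Z := zpowers w with hZ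
  have hwP : w ∈ (P : Subgroup G) := (P : Subgroup G).pow_mem hz i
  have hmem : ∀ k : G, k * w * k⁻¹ ∈ Z → k ∈ normalizer (Z : Set G) := by
    intro k hk
    rw [Subgroup.mem_normalizer_iff_map_conj_eq, hZ, MonoidHom.map_zpowers]
    show zpowers (k * w * k⁻¹) = zpowers w
    refine Subgroup.eq_of_le_of_card_ge (Subgroup.zpowers_le.mpr hk) ?_
    rw [Nat.card_zpowers, Nat.card_zpowers, ← MulAut.conj_apply, MulEquiv.orderOf_eq]
  have hne : normalizer (Z : Set G) ≠ ⊤ := by
    intro e
    have hn : Z.Normal := Subgroup.normalizer_eq_top_iff.mp e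
    rcases h.simple Z hn with e' | e'
    · have := orderOf_eq_one_iff.mpr (Subgroup.zpowers_eq_bot.mp e')
      rw [hi] at this
      exact hp.out.ne_one this
    · exact not_comm h fun a b => by
        obtain ⟨m, hm⟩ := (e' ▸ Subgroup.mem_top a : a ∈ Z)
        obtain ⟨n, hn'⟩ := (e' ▸ Subgroup.mem_top b : b ∈ Z)
        rw [← hm, ← hn']
        exact ((Commute.refl w).zpow_zpow m n).eq
  refine le_normalizer_of_ne_top h P hne (fun k hk => hmem k ?_) (hmem g ?_)
  · exact mem_zpowers_of_cyclic (h.cyc P) hwP hi (conj_mem_of_normalizer hk hwP)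
      (by rw [conj_pow, ← hi, pow_orderOf_eq_one, mul_one, mul_inv_cancel])
  · obtain ⟨n, hn⟩ := hg
    refine ⟨n, ?_⟩
    show w ^ n = g * w * g⁻¹
    rw [hw, ← conj_pow, ← hn]
    show (z ^ i) ^ n = (z ^ n) ^ i
    rw [← zpow_natCast, ← zpow_mul, ← zpow_natCast, ← zpow_mul, mul_comm]

theorem mem_normalizer_of_commute (P : Sylow p G) {z g : G} (hz : z ∈ (P : Subgroup G)) (hz1 : z ≠ 1)
    (hg : g * z = z * g) : g ∈ normalizer ((P : Subgroup G) : Set G) :=
  mem_normalizer_of_conj h P hz hz1 (by rw [hg, mul_inv_cancel_right]; exact mem_zpowers z)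

/-- Distinct Sylow `p`-subgroups meet trivially. -/
theorem sylow_eq_of_mem (P P' : Sylow p G) {z : G} (hz : z ∈ (P : Subgroup G)) (hz' : z ∈ (P' : Subgroup G))
    (hz1 : z ≠ 1) : P = P' := by
  have hle : (P' : Subgroup G) ≤ (P : Subgroup G) := fun a ha =>
    mem_sylow P (mem_normalizer_of_commute h P hz hz1 (comm_of_cyclic (h.cyc P') a ha z hz'))
      (exists_pow_of_mem P' ha)
  exact Sylow.ext (P'.is_maximal' P.2 hle)

/-- A `p'`-element commuting with a non-trivial element of `P` centralises `P`. -/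
theorem centralizes_of_commute (P : Sylow p G) {z g : G} (hz : z ∈ (P : Subgroup G)) (hz1 : z ≠ 1)
    (hgp : (orderOf g).Coprime p) (hg : g * z = z * g) : ∀ a ∈ (P : Subgroup G), g * a = a * g :=
  cyclic_fix P.2 (h.cyc P) hgp
    (fun _ ha => conj_mem_of_normalizer (mem_normalizer_of_commute h P hz hz1 hg) ha) hz hz1 hg

/-- Every Sylow subgroup for another prime is moved by a `p`-element of its normaliser. -/
theorem exists_p_normalizer {q : ℕ} [Fact q.Prime] (hne : p ≠ q) (Q : Sylow q G) (hQ : (Q : Subgroup G) ≠ ⊥) :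
    ∃ y : G, (∃ k : ℕ, y ^ p ^ k = 1) ∧ y ∈ normalizer ((Q : Subgroup G) : Set G) ∧
      ¬ ∀ a ∈ (Q : Subgroup G), y * a = a * y := by
  by_contra hcon
  push Not at hcon
  have hle : normalizer ((Q : Subgroup G) : Set G) ≤ centralizer ((Q : Subgroup G) : Set G) := by
    intro g hg
    obtain ⟨a, b, hab, ha, hb, hap, hbp⟩ := split (p := p) g
    have haN := Subgroup.zpowers_le.mpr hg ha
    have hbN := Subgroup.zpowers_le.mpr hg hb
    refine Subgroup.mem_centralizer_iff.mpr fun x hx => ?_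
    have e1 := hcon a hap haN x hx
    have e2 : b * x = x * b := h.hab (zpowers b ⊔ (Q : Subgroup G))
      (not_dvd_card_sup (Subgroup.zpowers_le.mpr hbN) (not_dvd_card_zpowers hbp)
        (not_dvd_card_of_isPGroup hne Q.2)) b (Subgroup.mem_sup_left (mem_zpowers b)) x (Subgroup.mem_sup_right hx)
    rw [← hab, ← mul_assoc, ← e1, mul_assoc, ← e2, mul_assoc]
  obtain ⟨Q', N, hN, hc⟩ := hasNormalPComplement_of_normalizer_le_centralizer Q hle
  rcases h.simple N hN with e | e
  · subst e
    have hQ' : (Q' : Subgroup G) = ⊤ := Subgroup.isComplement'_bot_left.mp hc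
    obtain ⟨P⟩ : Nonempty (Sylow p G) := inferInstance
    obtain ⟨x, hx, hx1⟩ := (P : Subgroup G).bot_or_exists_ne_one.resolve_left (sylow_ne_bot h P)
    obtain ⟨k, hk⟩ := exists_pow_of_mem Q' (hQ' ▸ Subgroup.mem_top x)
    refine hx1 (eq_one_of_pow (exists_pow_of_mem P hx) ?_)
    exact Nat.Coprime.coprime_dvd_left (orderOf_dvd_of_pow_eq_one hk)
      (((Nat.coprime_primes (Fact.out : q.Prime) hp.out).mpr hne.symm).pow_left k)
  · subst e
    have hQ' : (Q' : Subgroup G) = ⊥ := Subgroup.isComplement'_top_left.mp hc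
    refine hQ (Subgroup.card_eq_one.mp ?_)
    rw [Q.card_eq_multiplicity, ← Q'.card_eq_multiplicity]
    show Nat.card (Q' : Subgroup G) = 1
    rw [hQ', Subgroup.card_bot]

/-- A `p'`-element centralising `P` is central in `N(P)`. -/
theorem central_of_centralizes (P : Sylow p G) {x : G} (hxp : (orderOf x).Coprime p)
    (hx : ∀ a ∈ (P : Subgroup G), x * a = a * x) :
    ∀ g ∈ normalizer ((P : Subgroup G) : Set G), g * x = x * g := by
  intro g hg
  obtain ⟨a, b, hab, ha, hb, hap, hbp⟩ := split (p := p) g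
  have haP := mem_sylow P (Subgroup.zpowers_le.mpr hg ha) hap
  have hbN := Subgroup.zpowers_le.mpr hg hb
  set C := centralizer ((P : Subgroup G) : Set G) with hC
  have hPC : (P : Subgroup G) ≤ C := fun a ha => Subgroup.mem_centralizer_iff.mpr
    fun c hc => comm_of_cyclic (h.cyc P) c hc a ha
  have hcC : HasNormalPComplement p C := by
    refine hasNormalPComplement_of_normalizer_le_centralizer (P.subtype hPC) fun k _ => ?_
    rw [Subgroup.mem_centralizer_iff]
    intro c hc
    exact Subtype.ext (Subgroup.mem_centralizer_iff.mp k.2 c (by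
      exact hc))
  set K := (pPrimeCore p C).map C.subtype with hK
  have hKmem : ∀ c ∈ C, (orderOf c).Coprime p → c ∈ K := fun c hc hcp =>
    ⟨⟨c, hc⟩, mem_pPrimeCore_of_hasNormalPComplement hcC (by rw [Subgroup.orderOf_mk]; exact hcp), rfl⟩
  have hKcop : (Nat.card K).Coprime p := by
    rw [hK, Subgroup.card_map_of_injective C.subtype_injective]; exact card_pPrimeCore_coprime p
  have hxK : x ∈ K := hKmem x (Subgroup.mem_centralizer_iff.mpr fun c hc => (hx c hc).symm) hxp
  have hbK : zpowers b ≤ normalizer (K : Set G) := by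
    rw [Subgroup.zpowers_le, Subgroup.mem_normalizer_iff_map_conj_eq]
    refine Subgroup.eq_of_le_of_card_ge ?_ (le_of_eq (Subgroup.card_map_of_injective
      (f := (MulAut.conj b).toMonoidHom) (MulAut.conj b).injective).symm)
    rintro _ ⟨c, hc, rfl⟩
    show b * c * b⁻¹ ∈ K
    obtain ⟨c', hc', rfl⟩ := hc
    refine hKmem _ (Subgroup.mem_centralizer_iff.mpr fun d hd => ?_) ?_
    · have hd' := conj_mem_of_normalizer ((normalizer _).inv_mem hbN) hd
      have e := Subgroup.mem_centralizer_iff.mp c'.2 _ hd'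
      calc d * (b * C.subtype c' * b⁻¹) = b * (b⁻¹ * d * b⁻¹⁻¹ * (c' : G)) * b⁻¹ := by
            rw [Subgroup.coe_subtype]; group
        _ = b * ((c' : G) * (b⁻¹ * d * b⁻¹⁻¹)) * b⁻¹ := by rw [e]
        _ = _ := by rw [Subgroup.coe_subtype]; group
    · rw [← MulAut.conj_apply, MulEquiv.orderOf_eq]
      exact hKcop.coprime_dvd_left (Subgroup.orderOf_dvd_natCard _ (Subgroup.mem_map_of_mem _ hc'))
  have e2 : b * x = x * b := h.hab (zpowers b ⊔ K)
    (not_dvd_card_sup hbK (not_dvd_card_zpowers hbp) ((Nat.Prime.coprime_iff_not_dvd hp.out).mp hKcop.symm))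
    b (Subgroup.mem_sup_left (mem_zpowers b)) x (Subgroup.mem_sup_right hxK)
  rw [← hab, mul_assoc, e2, ← mul_assoc, ← hx a haP, mul_assoc]

theorem centralizer_le_of_centralizes (P : Sylow p G) {x : G} (hx1 : x ≠ 1) (hxp : (orderOf x).Coprime p)
    (hx : ∀ a ∈ (P : Subgroup G), x * a = a * x) :
    centralizer ({x} : Set G) ≤ normalizer ((P : Subgroup G) : Set G) :=
  le_normalizer_of_ne_top h P (centralizer_ne_top h hx1)
    fun g hg => Subgroup.mem_centralizer_singleton_iff.mpr (central_of_centralizes h P hxp hx g hg)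

end CfsgLib.CycSyl
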