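/-
An element of prime order centralising the Sylow `p`-subgroup: then it is an involution and `p = 3`.
-/
import Mathlib
import Cfsg.Agent.Lib.CyclicSylowAbelian.Simple

set_option autoImplicit false

open Subgroup Cfsg
open scoped Pointwise

namespace CfsgLib.CycSyl

universe u

variable {G : Type u} [Group G] [Finite G] {p : ℕ} [hp : Fact p.Prime]

/-- The elements of order dividing `q` of an abelian subgroup. -/
def omegaAb (q : ℕ) (Q : Subgroup G) (hab : ∀ a ∈ Q, ∀ b ∈ Q, a * b = b * a) : Subgroup G where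
  carrier := {a | a ∈ Q ∧ a ^ q = 1}
  one_mem' := ⟨Q.one_mem, one_pow q⟩
  mul_mem' := fun {a b} ha hb => ⟨Q.mul_mem ha.1 hb.1, by
    rw [(show Commute a b from hab a ha.1 b hb.1).mul_pow, ha.2, hb.2, one_mul]⟩
  inv_mem' := fun {a} ha => ⟨Q.inv_mem ha.1, by rw [inv_pow, ha.2, inv_one]⟩

/-- The image of an elementary abelian `q`-group acting on a group of order `p` has order `1` or `q`. -/
theorem image_bound {q : ℕ} (hq : q.Prime) {Z : Type u} [Group Z] [Finite Z] (hZ : Nat.card Z = p)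
    (R : Subgroup (MulAut Z)) (hR : ∀ r ∈ R, r ^ q = 1) :
    (Nat.card R = 1 ∨ Nat.card R = q) ∧ Nat.card R ∣ p - 1 := by
  classical
  have : IsCyclic Z := isCyclic_of_prime_card hZ
  have hR' : Nat.card R ∣ p - 1 := by
    have h1 := Subgroup.card_subgroup_dvd_card R
    rw [Nat.card_congr (IsCyclic.mulAutMulEquiv Z).toEquiv, hZ] at h1
    rwa [Nat.card_eq_fintype_card (α := (ZMod p)ˣ), ZMod.card_units_eq_totient, Nat.totient_prime hp.out] at h1
  have hcycM : IsCyclic (MulAut Z) := by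
    have e : MulAut Z ≃* (ZMod (Nat.card Z))ˣ := IsCyclic.mulAutMulEquiv Z
    have : Fact (Nat.card Z).Prime := ⟨hZ ▸ hp.out⟩
    exact isCyclic_of_injective e.toMonoidHom e.injective
  obtain ⟨g, hg⟩ := IsCyclic.exists_generator (α := R)
  refine ⟨(Nat.dvd_prime hq).mp ?_, hR'⟩
  rw [← orderOf_eq_card_of_forall_mem_zpowers hg]
  exact orderOf_dvd_of_pow_eq_one (Subtype.ext (by rw [SubgroupClass.coe_pow]; exact hR _ g.2))

variable (h : Hyp p G)
include h

/-- The main consequence of a non-trivial `p'`-centraliser of a Sylow `p`-subgroup. -/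
theorem central_structure (P : Sylow p G) {x : G} {q : ℕ} (hq : q.Prime) (hne : q ≠ p) (hxq : orderOf x = q)
    (hx : ∀ a ∈ (P : Subgroup G), x * a = a * x) :
    q = 2 ∧ p = 3 ∧
      (∀ u : G, orderOf u = 2 → IsConj x u) ∧
      (∀ a b c : G, orderOf a = 2 → orderOf b = 2 → orderOf c = 2 → a * b = b * a → a * c = c * a →
        b * c = c * b → a ≠ b → c = a ∨ c = b ∨ c = a * b) ∧
      ∃ t : G, orderOf t = 2 ∧ t * x = x * t ∧ ¬ ∀ a ∈ (P : Subgroup G), t * a = a * t := by
  classical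
  have := Fact.mk hq
  have hxp : (orderOf x).Coprime p := by rw [hxq]; exact (Nat.coprime_primes hq hp.out).mpr hne
  have hx1 : x ≠ 1 := fun e => hq.ne_one (by rw [← hxq, e, orderOf_one])
  have hCx : ∀ g : G, g * x = x * g → g ∈ normalizer ((P : Subgroup G) : Set G) := fun g hg =>
    centralizer_le_of_centralizes h P hx1 hxp hx (Subgroup.mem_centralizer_singleton_iff.mpr hg)
  obtain ⟨Q, hQ⟩ := (IsPGroup.of_card (p := q) (n := 1) (G := zpowers x) (by rw [Nat.card_zpowers, hxq, pow_one])).exists_le_sylow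
  have hxQ : x ∈ (Q : Subgroup G) := hQ (mem_zpowers x)
  have hQab : ∀ a ∈ (Q : Subgroup G), ∀ b ∈ (Q : Subgroup G), a * b = b * a :=
    h.hab Q (not_dvd_card_of_isPGroup hne.symm Q.2)
  have hQN : ∀ a ∈ (Q : Subgroup G), a ∈ normalizer ((P : Subgroup G) : Set G) :=
    fun a ha => hCx a (hQab a ha x hxQ)
  set A := omegaAb q (Q : Subgroup G) hQab with hAdef
  have hAm : ∀ a, a ∈ A ↔ a ∈ (Q : Subgroup G) ∧ a ^ q = 1 := fun a => Iff.rfl
  have hxA : x ∈ A := ⟨hxQ, by rw [← hxq]; exact pow_orderOf_eq_one x⟩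
  obtain ⟨y, hy, hyN, hyQ⟩ := exists_p_normalizer h hne.symm Q (fun e => hx1 (by rwa [e, Subgroup.mem_bot] at hxQ))
  obtain ⟨k, hk⟩ := hy
  have hyq : (orderOf y).Coprime q :=
    Nat.Coprime.coprime_dvd_left (orderOf_dvd_of_pow_eq_one hk) (((Nat.coprime_primes hp.out hq).mpr hne.symm).pow_left k)
  have hyAc : ∀ a ∈ A, y * a * y⁻¹ ∈ A := fun a ha =>
    ⟨conj_mem_of_normalizer hyN ha.1, by rw [conj_pow, ha.2, mul_one, mul_inv_cancel]⟩
  have hmove : ¬ ∀ a ∈ A, y * a = a * y := fun hall =>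
    hyQ (fix_of_fix_omega Q.2 hQab hyq (fun a ha => conj_mem_of_normalizer hyN ha) (fun a ha hap => hall a ⟨ha, hap⟩))
  have hyP : y ∉ normalizer ((P : Subgroup G) : Set G) := by
    intro hyN'
    have hyP' := mem_sylow P hyN' ⟨k, hk⟩
    refine hyQ fun a ha => ?_
    have h1 : y * a * y⁻¹ * a⁻¹ ∈ (Q : Subgroup G) :=
      (Q : Subgroup G).mul_mem (conj_mem_of_normalizer hyN ha) ((Q : Subgroup G).inv_mem ha)
    have h2 : y * a * y⁻¹ * a⁻¹ ∈ (P : Subgroup G) := by
      rw [show y * a * y⁻¹ * a⁻¹ = y * (a * y⁻¹ * a⁻¹) by group]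
      exact (P : Subgroup G).mul_mem hyP' (conj_mem_of_normalizer (hQN a ha) ((P : Subgroup G).inv_mem hyP'))
    obtain ⟨j, hj⟩ := exists_pow_of_mem Q h1
    have h3 := eq_one_of_pow (exists_pow_of_mem P h2) (Nat.Coprime.coprime_dvd_left
      (orderOf_dvd_of_pow_eq_one hj) (((Nat.coprime_primes hq hp.out).mpr hne).pow_left j))
    exact mul_inv_eq_iff_eq_mul.mp (mul_inv_eq_one.mp h3)
  -- the centraliser of `P` inside `A`
  set A₀ := A ⊓ centralizer ((P : Subgroup G) : Set G) with hA₀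
  have hA₀mem : ∀ a, a ∈ A₀ ↔ a ∈ A ∧ ∀ c ∈ (P : Subgroup G), a * c = c * a := by
    intro a
    rw [hA₀, Subgroup.mem_inf, Subgroup.mem_centralizer_iff]
    exact and_congr_right fun _ => ⟨fun hh c hc => (hh c hc).symm, fun hh c hc => (hh c hc).symm⟩
  have hmeet : ∀ a ∈ A₀, y * a * y⁻¹ ∈ A₀ → a = 1 := by
    intro a ha ha'
    by_contra ha1
    obtain ⟨haA, hac⟩ := (hA₀mem a).mp ha
    obtain ⟨ha'A, ha'c⟩ := (hA₀mem _).mp ha'
    have hap : ∀ b ∈ A, (orderOf b).Coprime p := fun b hb =>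
      Nat.Coprime.coprime_dvd_left (orderOf_dvd_of_pow_eq_one hb.2) ((Nat.coprime_primes hq hp.out).mpr hne)
    have hg : ∀ g ∈ normalizer ((P : Subgroup G) : Set G), y⁻¹ * g * y ∈ normalizer ((P : Subgroup G) : Set G) := by
      intro g hg
      refine centralizer_le_of_centralizes h P ha1 (hap a haA) hac (Subgroup.mem_centralizer_singleton_iff.mpr ?_)
      have e := central_of_centralizes h P (hap _ ha'A) ha'c g hg
      calc y⁻¹ * g * y * a = y⁻¹ * (g * (y * a * y⁻¹)) * y := by group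
        _ = y⁻¹ * ((y * a * y⁻¹) * g) * y := by rw [e]
        _ = a * (y⁻¹ * g * y) := by group
    refine hyP ((normalizer _).inv_mem_iff.mp ?_)
    rw [Subgroup.mem_normalizer_iff_map_conj_eq]
    refine Subgroup.eq_of_le_of_card_ge ?_ (le_of_eq (Subgroup.card_map_of_injective
      (f := (MulAut.conj y⁻¹).toMonoidHom) (MulAut.conj y⁻¹).injective).symm)
    rintro _ ⟨c, hc, rfl⟩
    show y⁻¹ * c * y⁻¹⁻¹ ∈ (P : Subgroup G)
    rw [inv_inv]
    refine mem_sylow P (hg c (Subgroup.le_normalizer hc)) ?_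
    obtain ⟨j, hj⟩ := exists_pow_of_mem P hc
    refine ⟨j, ?_⟩
    have := conj_pow (a := y⁻¹) (b := c) (i := p ^ j)
    rw [inv_inv] at this
    rw [this, hj, mul_one, inv_mul_cancel]
  -- the action on the subgroup of order `p`
  obtain ⟨z₁, hz₁, hz₁1⟩ := (P : Subgroup G).bot_or_exists_ne_one.resolve_left (sylow_ne_bot h P)
  obtain ⟨i, hi⟩ := exists_pow_order_p P.2 hz₁ hz₁1
  set z := z₁ ^ i with hz
  have hzP : z ∈ (P : Subgroup G) := (P : Subgroup G).pow_mem hz₁ i
  have hz1 : z ≠ 1 := fun e => hp.out.ne_one (by rw [← hi, e, orderOf_one])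
  set Z := zpowers z with hZ
  have hAN : A ≤ normalizer (Z : Set G) := by
    intro a ha
    rw [Subgroup.mem_normalizer_iff_map_conj_eq, hZ, MonoidHom.map_zpowers]
    show zpowers (a * z * a⁻¹) = zpowers z
    refine Subgroup.eq_of_le_of_card_ge (Subgroup.zpowers_le.mpr (mem_zpowers_of_cyclic (h.cyc P) hzP hi
      (conj_mem_of_normalizer (hQN a ha.1) hzP) ?_)) ?_
    · rw [conj_pow, ← hi, pow_orderOf_eq_one, mul_one, mul_inv_cancel]
    · rw [Nat.card_zpowers, Nat.card_zpowers, ← MulAut.conj_apply, MulEquiv.orderOf_eq]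
  let φ : A →* MulAut Z := Z.normalizerMonoidHom.comp (Subgroup.inclusion hAN)
  have hker : φ.ker = A₀.subgroupOf A := by
    ext a
    have hk := SetLike.ext_iff.mp (Subgroup.normalizerMonoidHom_ker (H := Z)) (Subgroup.inclusion hAN a)
    rw [MonoidHom.mem_ker, Subgroup.mem_subgroupOf] at hk
    rw [MonoidHom.mem_ker, Subgroup.mem_subgroupOf, hA₀mem]
    refine hk.trans ⟨fun hh => ⟨a.2, fun c hc => ?_⟩, fun hh => ?_⟩
    · exact centralizes_of_commute h P hzP hz1
        (Nat.Coprime.coprime_dvd_left (orderOf_dvd_of_pow_eq_one a.2.2) ((Nat.coprime_primes hq hp.out).mpr hne))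
        (Subgroup.mem_centralizer_iff.mp hh z (mem_zpowers z)).symm c hc
    · rw [Subgroup.mem_centralizer_iff]
      rintro _ ⟨m, rfl⟩
      exact ((show Commute (a : G) z from hh.2 z hzP).zpow_right m).symm.eq
  have hR := image_bound (p := p) hq (show Nat.card Z = p by rw [hZ, Nat.card_zpowers, hi]) φ.range (by
    rintro _ ⟨a, rfl⟩
    rw [← map_pow, show a ^ q = 1 from Subtype.ext (by rw [SubgroupClass.coe_pow]; exact a.2.2), map_one])
  have hcardA : Nat.card A = Nat.card A₀ * Nat.card φ.range := by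
    rw [← Subgroup.index_ker, hker, ← Nat.card_congr (Subgroup.subgroupOfEquivOfLe (inf_le_left : A₀ ≤ A)).toEquiv,
      Subgroup.card_mul_index]
  have hsq : Nat.card A₀ * Nat.card A₀ ≤ Nat.card A := by
    rw [← Nat.card_prod]
    refine Nat.card_le_card_of_injective (fun ab => (⟨(ab.1 : G) * (y * (ab.2 : G) * y⁻¹),
      A.mul_mem ((hA₀mem _).mp ab.1.2).1 (hyAc _ ((hA₀mem _).mp ab.2.2).1)⟩ : A)) ?_
    rintro ⟨a, b⟩ ⟨a', b'⟩ e
    have e' : (a : G) * (y * b * y⁻¹) = a' * (y * b' * y⁻¹) := congrArg Subtype.val e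
    have hb : (b : G) * (b' : G)⁻¹ = 1 := by
      refine hmeet _ (A₀.mul_mem b.2 (A₀.inv_mem b'.2)) ?_
      rw [show y * ((b : G) * (b' : G)⁻¹) * y⁻¹ = (a : G)⁻¹ * ((a : G) * (y * b * y⁻¹)) * (y * b' * y⁻¹)⁻¹ by group,
        e', show (a : G)⁻¹ * ((a' : G) * (y * b' * y⁻¹)) * (y * b' * y⁻¹)⁻¹ = (a : G)⁻¹ * a' by group]
      exact A₀.mul_mem (A₀.inv_mem a.2) a'.2
    have hb' : b = b' := Subtype.ext (mul_inv_eq_one.mp hb)
    subst hb'
    have ha : a = a' := Subtype.ext (mul_right_cancel e')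
    rw [ha]
  have hA₀q : q ≤ Nat.card A₀ := by
    rw [← hxq, ← Nat.card_zpowers]
    exact Subgroup.card_le_of_le (Subgroup.zpowers_le.mpr ((hA₀mem x).mpr ⟨hxA, hx⟩))
  have hA₀pos : 0 < Nat.card A₀ := Nat.card_pos
  have hRq : Nat.card φ.range = q := by
    rcases hR.1 with e | e
    · exfalso
      rw [e, mul_one] at hcardA
      rw [hcardA] at hsq
      have := hq.two_le
      nlinarith
    · exact e
  have hA₀eq : Nat.card A₀ = q := by
    rw [hcardA, hRq] at hsq
    exact le_antisymm (Nat.le_of_mul_le_mul_left hsq hA₀pos) hA₀q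
  have hAq : Nat.card A = q * q := by rw [hcardA, hRq, hA₀eq]
  have hqp : q ∣ p - 1 := hRq ▸ hR.2
  have hqlt : q < p := by
    have := Nat.le_of_dvd (by have := hp.out.two_le; omega) hqp
    omega
  -- the fixed points of `y` in `A`
  set F := A ⊓ centralizer ({y} : Set G) with hF
  have hfix : q * q ≡ Nat.card F [MOD p] := by
    let Y := zpowers y
    have hYN : Y ≤ normalizer (A : Set G) := by
      rw [Subgroup.zpowers_le, Subgroup.mem_normalizer_iff_map_conj_eq]
      refine Subgroup.eq_of_le_of_card_ge ?_ (le_of_eq (Subgroup.card_map_of_injective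
        (f := (MulAut.conj y).toMonoidHom) (MulAut.conj y).injective).symm)
      rintro _ ⟨c, hc, rfl⟩
      exact hyAc c hc
    letI : MulAction Y A := MulAction.compHom A (A.normalizerMonoidHom.comp (Subgroup.inclusion hYN))
    have hYp : IsPGroup p Y := IsPGroup.of_card (n := (orderOf y).factorization p) (by
      rw [Nat.card_zpowers]
      obtain ⟨j, -, hj⟩ := (Nat.dvd_prime_pow hp.out).mp (orderOf_dvd_of_pow_eq_one hk)
      rw [hj, hp.out.factorization_pow, Finsupp.single_eq_same])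
    have e := hYp.card_modEq_card_fixedPoints A
    rw [hAq] at e
    suffices hh : Nat.card (MulAction.fixedPoints Y A) = Nat.card F by rwa [hh] at e
    have hact : ∀ (g : Y) (a : A), ((g • a : A) : G) = (g : G) * (a : G) * (g : G)⁻¹ := fun g a => rfl
    have hfp : ∀ a : A, a ∈ MulAction.fixedPoints Y A ↔ (a : G) * y = y * (a : G) := by
      intro a
      constructor
      · intro ha
        have := congrArg Subtype.val (ha ⟨y, mem_zpowers y⟩)
        rw [hact] at this
        exact (mul_inv_eq_iff_eq_mul.mp this).symm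
      · rintro ha ⟨_, ⟨m, rfl⟩⟩
        refine Subtype.ext ?_
        rw [hact]
        show y ^ m * (a : G) * (y ^ m)⁻¹ = a
        rw [mul_inv_eq_iff_eq_mul]
        exact ((show Commute (a : G) y from ha).zpow_right m).symm.eq
    exact Nat.card_congr
      { toFun := fun a => ⟨((a : A) : G), (a : A).2, Subgroup.mem_centralizer_singleton_iff.mpr ((hfp _).mp a.2)⟩
        invFun := fun a => ⟨⟨(a : G), a.2.1⟩, (hfp _).mpr (Subgroup.mem_centralizer_singleton_iff.mp a.2.2)⟩
        left_inv := fun a => rfl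
        right_inv := fun a => rfl }
  have hFA : F ≠ A := fun e => hmove fun a ha =>
    (Subgroup.mem_centralizer_singleton_iff.mp ((e ▸ ha : a ∈ F)).2).symm
  have hFd : Nat.card F ∣ q ^ 2 := by
    rw [pow_two, ← hAq]; exact Subgroup.card_dvd_of_le inf_le_left
  obtain ⟨j, hj, hFj⟩ := (Nat.dvd_prime_pow hq).mp hFd
  have hF1 : Nat.card F = 1 ∧ p ∣ q * q - 1 := by
    interval_cases j
    · rw [pow_zero] at hFj
      refine ⟨hFj, ?_⟩
      rw [hFj] at hfix
      exact (Nat.modEq_iff_dvd' (Nat.mul_pos hq.pos hq.pos)).mp hfix.symm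
    · exfalso
      rw [pow_one] at hFj
      rw [hFj] at hfix
      have hd := (Nat.modEq_iff_dvd' (Nat.le_mul_self q)).mp hfix.symm
      rw [show q * q - q = q * (q - 1) by rw [Nat.mul_sub, mul_one]] at hd
      rcases hp.out.dvd_mul.mp hd with e | e
      · exact hne ((Nat.prime_dvd_prime_iff_eq hp.out hq).mp e).symm
      · have := Nat.le_of_dvd (by have := hq.two_le; omega) e
        omega
    · exact absurd (Subgroup.eq_of_le_of_card_ge inf_le_left (by rw [hAq, hFj, pow_two])) hFA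
  have hp1 : p = q + 1 := by
    have hd : p ∣ (q - 1) * (q + 1) := by
      rw [mul_comm, ← Nat.sq_sub_sq q 1, pow_two, one_pow]; exact hF1.2
    rcases hp.out.dvd_mul.mp hd with e | e
    · have := Nat.le_of_dvd (by have := hq.two_le; omega) e
      omega
    · have := Nat.le_of_dvd (by omega) e
      omega
  have hq2 : q = 2 := by
    rcases hq.eq_two_or_odd' with e | e
    · exact e
    · exfalso
      obtain ⟨m, hm⟩ := e
      rcases hp.out.eq_two_or_odd' with e' | ⟨n, hn⟩
      · have := hq.two_le; omega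
      · omega
  subst hq2
  have hp3 : p = 3 := by omega
  have hFbot : F = ⊥ := Subgroup.card_eq_one.mp hF1.1
  -- the three involutions of `A`
  have hA4 : (A : Set G) = {1, x, y * x * y⁻¹, y * (y * x * y⁻¹) * y⁻¹} := by
    have hy1 : ∀ a ∈ A, y * a * y⁻¹ = a → a = 1 := fun a ha e => by
      have : a ∈ F := ⟨ha, Subgroup.mem_centralizer_singleton_iff.mpr (mul_inv_eq_iff_eq_mul.mp e).symm⟩
      rwa [hFbot, Subgroup.mem_bot] at this
    set x' := y * x * y⁻¹ with hx'
    set x'' := y * x' * y⁻¹ with hx''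
    have hx'1 : x' ≠ 1 := fun e => hx1 (conj_eq_one_iff.mp e)
    have hx''1 : x'' ≠ 1 := fun e => hx'1 (conj_eq_one_iff.mp e)
    have h01 : x ≠ x' := fun e => hx1 (hy1 x hxA e.symm)
    have h12 : x' ≠ x'' := fun e => hx'1 (hy1 x' (hyAc x hxA) e.symm)
    have h02 : x ≠ x'' := by
      intro e
      have hc2 : Commute (y ^ 2) x := by
        show y ^ 2 * x = x * y ^ 2
        rw [← mul_inv_eq_iff_eq_mul]
        conv_rhs => rw [e, hx'', hx']
        rw [pow_two]; group
      obtain ⟨m, hm⟩ : ∃ m : ℕ, y = (y ^ 2) ^ m := by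
        obtain ⟨m, hm⟩ := exists_pow_eq_self_of_coprime (x := y) (n := 2) hyq.symm
        exact ⟨m, hm.symm⟩
      refine h01 ?_
      rw [hx', hm, ((hc2.pow_left m)).eq, mul_inv_cancel_right]
    refine (Set.eq_of_subset_of_ncard_le ?_ ?_ (Set.toFinite _)).symm
    · intro c hc
      rcases hc with rfl | rfl | rfl | rfl
      · exact A.one_mem
      · exact hxA
      · exact hyAc x hxA
      · exact hyAc _ (hyAc x hxA)
    · rw [← Nat.card_coe_set_eq]
      show Nat.card A ≤ _
      rw [hAq, Set.ncard_insert_of_notMem (by simp [hx1.symm, hx'1.symm, hx''1.symm]) (Set.toFinite _),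
        Set.ncard_eq_three.mpr ⟨x, x', x'', h01, h02, h12, rfl⟩]
  have hconjA : ∀ a ∈ A, a ≠ 1 → IsConj x a := by
    intro a ha ha1
    have ha' : a ∈ (A : Set G) := ha
    rw [hA4] at ha'
    rcases ha' with rfl | rfl | rfl | rfl
    · exact absurd rfl ha1
    · exact IsConj.refl _
    · exact isConj_iff.mpr ⟨y, rfl⟩
    · exact isConj_iff.mpr ⟨y * y, by group⟩
  have hinto : ∀ B : Subgroup G, IsPGroup 2 B → ∃ g : G, ∀ b ∈ B, b ^ 2 = 1 → g * b * g⁻¹ ∈ A := by
    intro B hB
    obtain ⟨Q', hQ'⟩ := hB.exists_le_sylow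
    obtain ⟨g, hg⟩ := MulAction.exists_smul_eq G Q' Q
    refine ⟨g, fun b hb hb2 => ⟨?_, by rw [conj_pow, hb2, mul_one, mul_inv_cancel]⟩⟩
    rw [← hg, Sylow.coe_subgroup_smul, Subgroup.mem_pointwise_smul_iff_inv_smul_mem]
    simpa [MulAut.conj_inv_apply, mul_assoc] using hQ' hb
  refine ⟨rfl, hp3, fun u hu => ?_, fun a b c ha hb hc hab hac hbc hne' => ?_, ?_⟩
  · obtain ⟨g, hg⟩ := hinto (zpowers u) (IsPGroup.of_card (n := 1) (by rw [Nat.card_zpowers, hu, pow_one]))
    have hu2 : u ^ 2 = 1 := by rw [← hu]; exact pow_orderOf_eq_one u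
    refine (hconjA _ (hg u (mem_zpowers u) hu2) ?_).trans (isConj_iff.mpr ⟨g⁻¹, by group⟩)
    intro e
    rw [conj_eq_one_iff.mp e, orderOf_one] at hu
    omega
  · set B := Subgroup.closure ({a, b, c} : Set G) with hB
    have hmemB : a ∈ B ∧ b ∈ B ∧ c ∈ B := ⟨Subgroup.subset_closure (by simp),
      Subgroup.subset_closure (by simp), Subgroup.subset_closure (by simp)⟩
    have hBc : IsMulCommutative B := by
      rw [hB]
      refine Subgroup.isMulCommutative_closure ?_
      intro u hu v hv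
      rcases hu with rfl | rfl | rfl <;> rcases hv with rfl | rfl | rfl <;>
        first | rfl | assumption | exact hab.symm | exact hac.symm | exact hbc.symm
    have hpow : ∀ d ∈ B, d ^ 2 = 1 := by
      intro d hd
      induction hd using Subgroup.closure_induction with
      | mem d hd =>
        rcases hd with rfl | rfl | rfl
        · rw [← ha]; exact pow_orderOf_eq_one _
        · rw [← hb]; exact pow_orderOf_eq_one _
        · rw [← hc]; exact pow_orderOf_eq_one _
      | one => rw [one_pow]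
      | mul u v hu hv hu2 hv2 =>
        rw [(show Commute u v from congrArg Subtype.val
          (hBc.is_comm.comm (⟨u, hu⟩ : B) ⟨v, hv⟩)).mul_pow, hu2, hv2, one_mul]
      | inv u hu hu2 => rw [inv_pow, hu2, inv_one]
    obtain ⟨g, hg⟩ := hinto B (fun d => ⟨1, Subtype.ext (by
      rw [SubgroupClass.coe_pow, pow_one]; exact hpow d d.2)⟩)
    by_contra hcon
    push Not at hcon
    obtain ⟨hca, hcb, hcab⟩ := hcon
    have h1 : a ≠ 1 ∧ b ≠ 1 ∧ c ≠ 1 := by
      refine ⟨?_, ?_, ?_⟩ <;> intro e <;> [rw [e, orderOf_one] at ha; rw [e, orderOf_one] at hb;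
        rw [e, orderOf_one] at hc] <;> omega
    have hab1 : a * b ≠ 1 := fun e => hne' (by
      rw [← inv_eq_of_mul_eq_one_right e, inv_eq_of_mul_eq_one_right (pow_two a ▸ hpow a hmemB.1)])
    have hsub : (fun d => g * d * g⁻¹) '' ({1, a, b, a * b, c} : Set G) ⊆ (A : Set G) := by
      rintro _ ⟨d, hd, rfl⟩
      have hdB : d ∈ B := by
        rcases hd with rfl | rfl | rfl | rfl | rfl
        exacts [B.one_mem, hmemB.1, hmemB.2.1, B.mul_mem hmemB.1 hmemB.2.1, hmemB.2.2]
      exact hg d hdB (hpow d hdB)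
    have h5 := Set.ncard_le_ncard hsub (Set.toFinite _)
    rw [Set.ncard_image_of_injective _ (fun u v e => mul_left_cancel (mul_right_cancel e)),
      ← Nat.card_coe_set_eq (A : Set G)] at h5
    change _ ≤ Nat.card A at h5
    rw [hAq, Set.ncard_insert_of_notMem (by simp [h1.1.symm, h1.2.1.symm, hab1.symm, h1.2.2.symm]),
      Set.ncard_insert_of_notMem (by simp [hne', h1.2.1, hca.symm]),
      Set.ncard_eq_three.mpr ⟨b, a * b, c, fun e => h1.1 (right_eq_mul.mp e), hcb.symm, hcab.symm, rfl⟩] at h5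
    omega
  · obtain ⟨t, ht, ht'⟩ := SetLike.not_le_iff_exists.mp (fun hle : A ≤ A₀ => by
      have := Subgroup.card_le_of_le hle
      rw [hAq, hA₀eq] at this; omega)
    refine ⟨t, orderOf_eq_prime ht.2 (fun e => ht' (e ▸ A₀.one_mem)), hQab t ht.1 x hxQ, fun hh => ?_⟩
    exact ht' ((hA₀mem t).mpr ⟨ht, hh⟩)

end CfsgLib.CycSyl
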