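/-
Products of two involutions.
-/
import Mathlib
import Cfsg.Agent.Lib.CyclicSylowAbelian.Simple

set_option autoImplicit false

open Subgroup Cfsg

namespace CfsgLib.CycSyl

universe u

variable {G : Type u} [Group G] [Finite G] {p : ℕ} [hp : Fact p.Prime]

omit [Finite G] in
theorem sq_of_orderOf_two {s : G} (hs : orderOf s = 2) : s * s = 1 := by
  rw [← pow_two, ← hs]; exact pow_orderOf_eq_one s

omit [Finite G] in
theorem inv_of_orderOf_two {s : G} (hs : orderOf s = 2) : s⁻¹ = s :=
  inv_eq_of_mul_eq_one_right (sq_of_orderOf_two hs)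

omit [Finite G] in
theorem conj_mul_invol {s u : G} (hs : orderOf s = 2) (hu : orderOf u = 2) :
    s * (s * u) * s⁻¹ = (s * u)⁻¹ := by
  rw [mul_inv_rev, inv_of_orderOf_two hs, inv_of_orderOf_two hu, ← mul_assoc s s, sq_of_orderOf_two hs, one_mul]

omit [Finite G] in
theorem conj_pow_of_inv {s x : G} (hx : s * x * s⁻¹ = x⁻¹) (n : ℕ) : s * x ^ n * s⁻¹ = (x ^ n)⁻¹ := by
  rw [← conj_pow, hx, inv_pow]

omit [Finite G] in
theorem commute_of_sq {s u : G} (hs : orderOf s = 2) (hu : orderOf u = 2) (h : (s * u) ^ 2 = 1) :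
    s * u = u * s := by
  have e : (s * u)⁻¹ = s * u := inv_eq_of_mul_eq_one_right (by rwa [← pow_two])
  rw [mul_inv_rev, inv_of_orderOf_two hs, inv_of_orderOf_two hu] at e
  exact e.symm

/-- Non-commuting involutions: the product has even order, and a power of it is an involution commuting with
both, or it is a non-trivial `p`-element. -/
theorem product_cases (hab : AbelianPPrime p G) (hp2 : p ≠ 2) {s u : G} (hs : orderOf s = 2) (hu : orderOf u = 2)
    (hne : ¬ s * u = u * s) :
    (∃ i : ℕ, orderOf ((s * u) ^ i) = 2 ∧ s * (s * u) ^ i = (s * u) ^ i * s ∧ u * (s * u) ^ i = (s * u) ^ i * u) ∨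
      ((∃ k : ℕ, (s * u) ^ p ^ k = 1) ∧ s * u ≠ 1) := by
  set x := s * u with hx
  have hinv : s * x * s⁻¹ = x⁻¹ := conj_mul_invol hs hu
  have hux : ∀ n : ℕ, x ^ n * s = s * (x ^ n)⁻¹ := fun n => by
    rw [← conj_pow_of_inv hinv n, inv_of_orderOf_two hs, ← mul_assoc, ← mul_assoc, sq_of_orderOf_two hs, one_mul]
  by_cases h2 : 2 ∣ orderOf x
  · left
    refine ⟨orderOf x / 2, orderOf_pow_orderOf_div (orderOf_pos x).ne' h2, ?_⟩
    set z := x ^ (orderOf x / 2) with hz
    have hz2 : orderOf z = 2 := orderOf_pow_orderOf_div (orderOf_pos x).ne' h2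
    have hsz : s * z = z * s := by
      rw [hz, hux, ← hz, inv_of_orderOf_two hz2]
    refine ⟨hsz, ?_⟩
    have hxz : x * z = z * x := by rw [hz, ← pow_succ, ← pow_succ']
    have hu' : u = s * x := by rw [hx, ← mul_assoc, sq_of_orderOf_two hs, one_mul]
    rw [hu', mul_assoc, hxz, ← mul_assoc, hsz, mul_assoc]
  · right
    refine ⟨?_, fun e => hne ?_⟩
    · have hn0 : orderOf x ≠ 0 := (orderOf_pos x).ne'
      suffices hall : ∀ r : ℕ, r.Prime → r ∣ orderOf x → r = p by
        refine ⟨(orderOf x).primeFactorsList.length, orderOf_dvd_iff_pow_eq_one.mp ?_⟩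
        exact (Nat.eq_prime_pow_of_unique_prime_dvd hn0 (fun {d} hd hdd => hall d hd hdd)).dvd
      intro r hr hrd
      by_contra hrp
      have := Fact.mk hr
      set v := x ^ (orderOf x / r) with hv
      have hvr : orderOf v = r := orderOf_pow_orderOf_div hn0 hrd
      have hsv : s * v * s⁻¹ = v⁻¹ := conj_pow_of_inv hinv _
      have hsN : zpowers s ≤ normalizer (zpowers v : Set G) := by
        rw [Subgroup.zpowers_le, Subgroup.mem_normalizer_iff_map_conj_eq, MonoidHom.map_zpowers]
        show zpowers (s * v * s⁻¹) = zpowers v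
        rw [hsv, Subgroup.zpowers_inv]
      have e : s * v = v * s := hab (zpowers s ⊔ zpowers v)
        (not_dvd_card_sup hsN
          (not_dvd_card_zpowers (by rw [hs]; exact (Nat.coprime_primes Nat.prime_two hp.out).mpr (Ne.symm hp2)))
          (not_dvd_card_zpowers (by rw [hvr]; exact (Nat.coprime_primes hr hp.out).mpr hrp)))
        s (Subgroup.mem_sup_left (mem_zpowers s)) v (Subgroup.mem_sup_right (mem_zpowers v))
      rw [e, mul_inv_cancel_right] at hsv
      have hv2 : orderOf v ∣ 2 := orderOf_dvd_of_pow_eq_one (by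
        rw [pow_two]; nth_rewrite 2 [hsv]; exact mul_inv_cancel v)
      rw [hvr] at hv2
      exact h2 (((Nat.prime_dvd_prime_iff_eq hr Nat.prime_two).mp hv2) ▸ hrd)
    · exact commute_of_sq hs hu (by rw [← hx, e, one_pow])

end CfsgLib.CycSyl
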