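/-
No involution centralises a non-trivial `p`-element: a count of pairs of involutions modulo `p`.
-/
import Mathlib
import Cfsg.Agent.Lib.CyclicSylowAbelian.Trichotomy

set_option autoImplicit false

open Subgroup Cfsg
open scoped Pointwise

namespace CfsgLib.CycSyl

universe u

variable {G : Type u} [Group G] [Finite G] {p : ℕ} [hp : Fact p.Prime]

theorem count_contra (h : Hyp p G) (hp2 : p ≠ 2) (h2 : 2 ∣ Nat.card G)
    (hfree : ∀ u z : G, orderOf u = 2 → z ≠ 1 → (∃ k : ℕ, z ^ p ^ k = 1) → ¬ u * z = z * u)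
    (hcP : ∀ (P : Sylow p G) (g : G), (∀ a ∈ (P : Subgroup G), g * a = a * g) → g ∈ (P : Subgroup G)) : False := by
  classical
  have : Fintype G := Fintype.ofFinite G
  have := Fact.mk Nat.prime_two
  set Inv : Finset G := Finset.univ.filter (fun s => orderOf s = 2) with hInv
  have hInvm : ∀ s, s ∈ Inv ↔ orderOf s = 2 := fun s => by simp [hInv]
  let com : G → Finset G := fun u => Inv.filter (fun s => s * u = u * s)
  let bad : G → Finset G := fun u => Inv.filter (fun s => ¬ s * u = u * s)
  have hsplit : ∀ u, Inv.card = (com u).card + (bad u).card := fun u =>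
    (Finset.card_filter_add_card_filter_not (s := Inv) (fun s => s * u = u * s)).symm
  -- a Sylow 2-subgroup containing an involution is the 2-part of its centraliser
  have hC : ∀ u : G, orderOf u = 2 → ¬ p ∣ Nat.card (centralizer ({u} : Set G)) := by
    intro u hu hd
    obtain ⟨c, hc⟩ := exists_prime_orderOf_dvd_card' p hd
    rw [← Subgroup.orderOf_coe] at hc
    exact hfree u c hu (fun e => hp.out.ne_one (by rw [← hc, e, orderOf_one]))
      ⟨1, by rw [pow_one, ← hc]; exact pow_orderOf_eq_one _⟩ (Subgroup.mem_centralizer_singleton_iff.mp c.2).symm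
  have hcomS : ∀ (S : Sylow 2 G) (u : G), u ∈ (S : Subgroup G) → orderOf u = 2 →
      com u = Inv.filter (fun s => s ∈ (S : Subgroup G)) := by
    intro S u huS hu
    refine Finset.filter_congr fun s hs => ⟨fun e => ?_, fun hsS => ?_⟩
    · set C := centralizer ({u} : Set G) with hCdef
      have hSab : ∀ a ∈ (S : Subgroup G), ∀ b ∈ (S : Subgroup G), a * b = b * a :=
        h.hab S (not_dvd_card_of_isPGroup hp2 S.2)
      have hSC : (S : Subgroup G) ≤ C := fun a ha => Subgroup.mem_centralizer_singleton_iff.mpr (hSab a ha u huS)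
      have hCab := h.hab C (hC u hu)
      have hsC : s ∈ C := Subgroup.mem_centralizer_singleton_iff.mpr e
      refine mem_sylow S ?_ ⟨1, by rw [pow_one, ← (hInvm s).mp hs]; exact pow_orderOf_eq_one s⟩
      rw [Subgroup.mem_normalizer_iff]
      intro a
      constructor
      · intro ha
        rwa [hCab s hsC a (hSC ha), mul_inv_cancel_right]
      · intro ha
        have hm := hCab s hsC _ (hSC ha)
        have : s * a * s⁻¹ = a := by
          have h' : s * (s * a * s⁻¹) * s⁻¹ = s * a * s⁻¹ := by rw [hm, mul_inv_cancel_right]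
          exact mul_left_cancel (mul_right_cancel h')
        rwa [this] at ha
    · exact h.hab S (not_dvd_card_of_isPGroup hp2 S.2) s hsS u huS
  -- the number of involutions of a Sylow 2-subgroup is divisible by `p`
  obtain ⟨S⟩ : Nonempty (Sylow 2 G) := inferInstance
  have hS1 : (S : Subgroup G) ≠ ⊥ := S.ne_bot_of_dvd_card h2
  set T := Inv.filter (fun s => s ∈ (S : Subgroup G)) with hT
  have hTd : p ∣ T.card := by
    obtain ⟨y, hy, hyN, hyS⟩ := exists_p_normalizer h hp2 S hS1
    have hy1 : y ≠ 1 := fun e => hyS (by intro a _; rw [e, one_mul, mul_one])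
    let α := {s : G // s ∈ T}
    have hconjT : ∀ g ∈ normalizer ((S : Subgroup G) : Set G), ∀ s : α, g * s.1 * g⁻¹ ∈ T := by
      intro g hg s
      obtain ⟨h1, h2'⟩ := Finset.mem_filter.mp s.2
      refine Finset.mem_filter.mpr ⟨(hInvm _).mpr ?_, conj_mem_of_normalizer hg h2'⟩
      rw [← MulAut.conj_apply, MulEquiv.orderOf_eq]; exact (hInvm _).mp h1
    letI : MulAction (zpowers y) α :=
      { smul := fun g s => ⟨(g : G) * s.1 * (g : G)⁻¹, hconjT g (Subgroup.zpowers_le.mpr hyN g.2) s⟩
        one_smul := fun s => Subtype.ext (by show (1 : G) * s.1 * (1 : G)⁻¹ = s.1; group)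
        mul_smul := fun a b s => Subtype.ext (by
          show ((a : G) * b) * s.1 * ((a : G) * b)⁻¹ = (a : G) * ((b : G) * s.1 * (b : G)⁻¹) * (a : G)⁻¹
          group) }
    obtain ⟨k, hk⟩ := hy
    obtain ⟨j, -, hj⟩ := (Nat.dvd_prime_pow hp.out).mp (orderOf_dvd_of_pow_eq_one hk)
    have hYp : IsPGroup p (zpowers y) := IsPGroup.of_card (n := j) (by rw [Nat.card_zpowers, hj])
    have e := hYp.card_modEq_card_fixedPoints α
    have hempty : IsEmpty (MulAction.fixedPoints (zpowers y) α) := ⟨fun s => by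
      have e' : y * s.1.1 * y⁻¹ = s.1.1 := congrArg Subtype.val (s.2 ⟨y, mem_zpowers y⟩)
      exact hfree s.1.1 y ((hInvm _).mp (Finset.mem_filter.mp s.1.2).1) hy1 ⟨k, hk⟩
        (mul_inv_eq_iff_eq_mul.mp e').symm⟩
    rw [Nat.card_of_isEmpty (α := MulAction.fixedPoints (zpowers y) α), Nat.card_eq_fintype_card (α := α),
      Fintype.card_coe] at e
    exact Nat.modEq_zero_iff_dvd.mp e
  -- the number of involutions commuting with a given one does not depend on it
  have hcom : ∀ u ∈ Inv, (com u).card = T.card := by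
    intro u hu
    rw [hInvm] at hu
    obtain ⟨S', hS'⟩ := (IsPGroup.of_card (p := 2) (n := 1) (G := zpowers u) (by rw [Nat.card_zpowers, hu, pow_one])).exists_le_sylow
    rw [hcomS S' u (hS' (mem_zpowers u)) hu, hT]
    obtain ⟨g, rfl⟩ := MulAction.exists_smul_eq G S S'
    refine (Finset.card_bij (fun s _ => g * s * g⁻¹) ?_ ?_ ?_).symm
    · intro s hs
      obtain ⟨h1, h2'⟩ := Finset.mem_filter.mp hs
      refine Finset.mem_filter.mpr ⟨(hInvm _).mpr (by rw [← MulAut.conj_apply, MulEquiv.orderOf_eq]; exact (hInvm _).mp h1), ?_⟩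
      rw [Sylow.coe_subgroup_smul, Subgroup.mem_pointwise_smul_iff_inv_smul_mem]
      simpa [MulAut.conj_inv_apply, mul_assoc] using h2'
    · exact fun a _ b _ e => mul_left_cancel (mul_right_cancel e)
    · intro s hs
      obtain ⟨h1, h2'⟩ := Finset.mem_filter.mp hs
      rw [Sylow.coe_subgroup_smul, Subgroup.mem_pointwise_smul_iff_inv_smul_mem] at h2'
      refine ⟨g⁻¹ * s * g, Finset.mem_filter.mpr ⟨(hInvm _).mpr ?_, ?_⟩, by group⟩
      · have e : g⁻¹ * s * g = MulAut.conj g⁻¹ s := by simp [mul_assoc]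
        rw [e, MulEquiv.orderOf_eq]; exact (hInvm _).mp h1
      · simpa [MulAut.conj_inv_apply, mul_assoc] using h2'
  obtain ⟨P₀⟩ : Nonempty (Sylow p G) := inferInstance
  -- `|P|` divides the number of involutions
  have hPInv : Nat.card (P₀ : Subgroup G) ∣ Inv.card := by
    rw [Finset.card_eq_sum_card_fiberwise (f := ConjClasses.mk) (t := Inv.image ConjClasses.mk)
      (fun s hs => Finset.mem_image_of_mem _ hs)]
    refine Finset.dvd_sum fun c hc => ?_
    obtain ⟨u, hu, rfl⟩ := Finset.mem_image.mp hc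
    rw [hInvm] at hu
    have e1 : (Inv.filter fun s => ConjClasses.mk s = ConjClasses.mk u).card = (ConjClasses.mk u).carrier.ncard := by
      rw [← Set.ncard_coe_finset]
      congr 1
      ext s
      rw [Finset.mem_coe, Finset.mem_filter, ConjClasses.mem_carrier_iff_mk_eq, hInvm]
      refine ⟨fun e => e.2, fun e => ⟨?_, e⟩⟩
      obtain ⟨g, hg⟩ := isConj_iff.mp (ConjClasses.mk_eq_mk_iff_isConj.mp e).symm
      rw [← hg, ← MulAut.conj_apply, MulEquiv.orderOf_eq, hu]
    have e2 : (ConjClasses.mk u).carrier.ncard = (centralizer ({u} : Set G)).index := by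
      rw [Subgroup.centralizer_eq_comap_stabilizer]
      erw [Subgroup.index_comap_of_surjective _ (MulEquiv.surjective _)]
      rw [MulAction.index_stabilizer, ← ConjAct.orbit_eq_carrier_conjClasses]
    rw [e1, e2]
    obtain ⟨j, hj⟩ := P₀.2.exists_card_eq
    rw [hj]
    have h1 : p ^ j ∣ Nat.card (centralizer ({u} : Set G)) * (centralizer ({u} : Set G)).index := by
      rw [Subgroup.card_mul_index, ← hj]; exact Subgroup.card_subgroup_dvd_card _
    exact (((Nat.Prime.coprime_iff_not_dvd hp.out).mpr (hC u hu)).pow_left j).dvd_of_dvd_mul_left h1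
  set Pairs : Finset (G × G) := (Inv ×ˢ Inv).filter (fun su => ¬ su.1 * su.2 = su.2 * su.1) with hPairs
  have hPc : Pairs.card = Inv.card * (Inv.card - T.card) := by
    rw [Finset.card_eq_sum_card_fiberwise (f := Prod.snd) (t := Inv)
      (fun su hsu => (Finset.mem_product.mp (Finset.mem_filter.mp hsu).1).2)]
    rw [Finset.sum_congr rfl (fun u hu => show _ = Inv.card - T.card from ?_), Finset.sum_const, smul_eq_mul]
    have e : (Pairs.filter fun su => su.2 = u).card = (bad u).card := by
      refine Finset.card_bij (fun su _ => su.1) ?_ ?_ ?_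
      · intro su hsu
        simp only [hPairs, Finset.mem_filter, Finset.mem_product] at hsu
        exact Finset.mem_filter.mpr ⟨hsu.1.1.1, hsu.2 ▸ hsu.1.2⟩
      · intro a ha b hb e
        simp only [hPairs, Finset.mem_filter, Finset.mem_product] at ha hb
        exact Prod.ext e (ha.2.trans hb.2.symm)
      · intro s hs
        obtain ⟨hs1, hs2⟩ := Finset.mem_filter.mp hs
        exact ⟨(s, u), by simp only [hPairs, Finset.mem_filter, Finset.mem_product]; exact ⟨⟨⟨hs1, hu⟩, hs2⟩, trivial⟩, rfl⟩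
    rw [e, ← hcom u hu, hsplit u, Nat.add_sub_cancel_left]
  -- the products
  have hprod : ∀ s u, (s, u) ∈ Pairs → orderOf s = 2 ∧ orderOf u = 2 ∧ (∃ k : ℕ, (s * u) ^ p ^ k = 1) ∧ s * u ≠ 1 := by
    intro s u hsu
    simp only [hPairs, Finset.mem_filter, Finset.mem_product, hInvm] at hsu
    obtain ⟨⟨hs, hu⟩, hne⟩ := hsu
    rcases product_cases h.hab hp2 hs hu hne with ⟨i, hi, hsi, hui⟩ | e
    · exfalso
      exact hne (h.hab _ (hC _ hi) s (Subgroup.mem_centralizer_singleton_iff.mpr hsi) u
        (Subgroup.mem_centralizer_singleton_iff.mpr hui))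
    · exact ⟨hs, hu, e⟩
  let I : Sylow p G → Finset G := fun P => Inv.filter (fun s => s ∈ normalizer ((P : Subgroup G) : Set G))
  let X : Sylow p G → Finset G := fun P => Finset.univ.filter (fun x => x ∈ (P : Subgroup G) ∧ x ≠ 1)
  have hinvert : ∀ (P : Sylow p G), ∀ s ∈ I P, ∀ a ∈ (P : Subgroup G), s * a * s⁻¹ = a⁻¹ := by
    intro P s hs a ha
    obtain ⟨hs1, hsN⟩ := Finset.mem_filter.mp hs
    rw [hInvm] at hs1
    have hc : s * a * s⁻¹ * a = a * (s * a * s⁻¹) :=
      comm_of_cyclic (h.cyc P) _ (conj_mem_of_normalizer hsN ha) a ha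
    set b := s * a * s⁻¹ * a with hb
    have hbP : b ∈ (P : Subgroup G) := (P : Subgroup G).mul_mem (conj_mem_of_normalizer hsN ha) ha
    by_contra hne
    refine hfree s b hs1 (fun e => hne (eq_inv_of_mul_eq_one_left e)) (exists_pow_of_mem P hbP) ?_
    rw [← mul_inv_eq_iff_eq_mul]
    calc s * b * s⁻¹ = s * (s * a * s⁻¹) * (a * s⁻¹) := by rw [hb]; group
      _ = (s * s) * a * (s⁻¹ * (a * s⁻¹)) := by group
      _ = a * (s * a * s⁻¹) := by rw [sq_of_orderOf_two hs1, one_mul, inv_of_orderOf_two hs1]; group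
      _ = b := hc.symm
  have hPairs2 : Pairs.card = ∑ P : Sylow p G, (X P).card * (I P).card := by
    rw [Finset.sum_congr rfl (fun P _ => (Finset.card_product (X P) (I P)).symm),
      ← Finset.card_sigma Finset.univ (fun P => X P ×ˢ I P)]
    refine (Finset.card_bij (fun a _ => (a.2.2, a.2.2 * a.2.1)) ?_ ?_ ?_).symm
    · rintro ⟨P, x, s⟩ ha
      simp only [Finset.mem_sigma, Finset.mem_product, Finset.mem_univ, true_and] at ha
      obtain ⟨hx, hs⟩ := ha
      obtain ⟨-, hxP, hx1⟩ := Finset.mem_filter.mp hx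
      have hs1 := (hInvm _).mp (Finset.mem_filter.mp hs).1
      have hi := hinvert P s hs x hxP
      have hsx : orderOf (s * x) = 2 := by
        refine orderOf_eq_prime ?_ fun e => ?_
        · rw [pow_two]
          calc s * x * (s * x) = s * x * s⁻¹ * x := by rw [inv_of_orderOf_two hs1]; group
            _ = 1 := by rw [hi, inv_mul_cancel]
        · have hsP : s ∈ (P : Subgroup G) := by
            rw [eq_inv_of_mul_eq_one_left e]; exact (P : Subgroup G).inv_mem hxP
          have hs' := eq_one_of_pow (exists_pow_of_mem P hsP)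
            (by rw [hs1]; exact (Nat.coprime_primes Nat.prime_two hp.out).mpr (Ne.symm hp2))
          rw [hs', orderOf_one] at hs1; omega
      simp only [hPairs, Finset.mem_filter, Finset.mem_product, hInvm]
      refine ⟨⟨hs1, hsx⟩, fun e => ?_⟩
      refine hfree s x hs1 hx1 (exists_pow_of_mem P hxP) (mul_left_cancel (a := s) ?_)
      rw [e, mul_assoc]
    · rintro ⟨P, x, s⟩ ha ⟨P', x', s'⟩ ha' e
      simp only [Prod.mk.injEq] at e
      obtain ⟨rfl, e⟩ := e
      obtain rfl := mul_left_cancel e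
      simp only [Finset.mem_sigma, Finset.mem_product, Finset.mem_univ, true_and] at ha ha'
      obtain ⟨-, hxP, hx1⟩ := Finset.mem_filter.mp ha.1
      obtain ⟨-, hxP', -⟩ := Finset.mem_filter.mp ha'.1
      obtain rfl := sylow_eq_of_mem h P P' hxP hxP' hx1
      rfl
    · rintro ⟨s, u⟩ hsu
      obtain ⟨hs, hu, ⟨k, hk⟩, hne⟩ := hprod s u hsu
      obtain ⟨j, -, hj⟩ := (Nat.dvd_prime_pow hp.out).mp (orderOf_dvd_of_pow_eq_one hk)
      obtain ⟨P, hP⟩ := (IsPGroup.of_card (p := p) (n := j) (G := zpowers (s * u)) (by rw [Nat.card_zpowers, hj])).exists_le_sylow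
      have hxP : s * u ∈ (P : Subgroup G) := hP (mem_zpowers _)
      have hsN : s ∈ normalizer ((P : Subgroup G) : Set G) := mem_normalizer_of_conj h P hxP hne (by
        rw [conj_mul_invol hs hu]; exact (zpowers _).inv_mem (mem_zpowers _))
      refine ⟨⟨P, s * u, s⟩, ?_, by rw [← mul_assoc, sq_of_orderOf_two hs, one_mul]⟩
      simp only [Finset.mem_sigma, Finset.mem_product, Finset.mem_univ, true_and]
      exact ⟨Finset.mem_filter.mpr ⟨Finset.mem_univ _, hxP, hne⟩, Finset.mem_filter.mpr ⟨(hInvm _).mpr hs, hsN⟩⟩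
  -- some pair does not commute
  obtain ⟨⟨s₀, u₀⟩, hsu₀⟩ : Pairs.Nonempty := by
    by_contra hcon
    rw [Finset.not_nonempty_iff_eq_empty] at hcon
    obtain ⟨s, hs⟩ := exists_prime_orderOf_dvd_card' (G := G) 2 h2
    have hall : ∀ a b : G, orderOf a = 2 → orderOf b = 2 → a * b = b * a := by
      intro a b ha hb
      by_contra hne
      have : (a, b) ∈ Pairs := by
        simp only [hPairs, Finset.mem_filter, Finset.mem_product, hInvm]; exact ⟨⟨ha, hb⟩, hne⟩
      rw [hcon] at this
      exact absurd this (Finset.notMem_empty _)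
    set N := Subgroup.closure {a : G | orderOf a = 2} with hN
    have hNn : N.Normal := by
      refine ⟨fun a ha g => ?_⟩
      have hle : N ≤ N.comap (MulAut.conj g).toMonoidHom := (Subgroup.closure_le _).mpr fun b hb => by
        rw [SetLike.mem_coe, Subgroup.mem_comap]
        refine Subgroup.subset_closure ?_
        show orderOf (MulAut.conj g b) = 2
        rw [MulEquiv.orderOf_eq]; exact hb
      exact hle ha
    have hsN : s ∈ N := Subgroup.subset_closure hs
    rcases h.simple N hNn with e | e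
    · rw [e, Subgroup.mem_bot] at hsN
      rw [hsN, orderOf_one] at hs; omega
    · have hNc : IsMulCommutative N := Subgroup.isMulCommutative_closure fun a ha b hb => hall a b ha hb
      exact not_comm h fun a b => congrArg Subtype.val
        (hNc.is_comm.comm (⟨a, e ▸ Subgroup.mem_top a⟩ : N) ⟨b, e ▸ Subgroup.mem_top b⟩)
  have hIcard : ∀ P : Sylow p G, (I P).card = Nat.card (P : Subgroup G) := by
    intro P
    obtain ⟨hs, hu, ⟨k, hk⟩, hne⟩ := hprod s₀ u₀ hsu₀
    obtain ⟨j, -, hj⟩ := (Nat.dvd_prime_pow hp.out).mp (orderOf_dvd_of_pow_eq_one hk)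
    obtain ⟨Q, hQ⟩ := (IsPGroup.of_card (p := p) (n := j) (G := zpowers (s₀ * u₀)) (by rw [Nat.card_zpowers, hj])).exists_le_sylow
    have hsQ : s₀ ∈ normalizer ((Q : Subgroup G) : Set G) := mem_normalizer_of_conj h Q (hQ (mem_zpowers _)) hne (by
      rw [conj_mul_invol hs hu]; exact (zpowers _).inv_mem (mem_zpowers _))
    obtain ⟨g, hg⟩ := MulAction.exists_smul_eq G Q P
    set s := g * s₀ * g⁻¹ with hsdef
    have hs2 : orderOf s = 2 := by rw [hsdef, ← MulAut.conj_apply, MulEquiv.orderOf_eq, hs]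
    have hsI : s ∈ I P := by
      refine Finset.mem_filter.mpr ⟨(hInvm _).mpr hs2, ?_⟩
      rw [← hg, Sylow.coe_subgroup_smul]
      have hPQ : ∀ a, a ∈ (MulAut.conj g • (Q : Subgroup G)) ↔ g⁻¹ * a * g ∈ (Q : Subgroup G) := fun a => by
        rw [Subgroup.mem_pointwise_smul_iff_inv_smul_mem]; simp [MulAut.conj_inv_apply, mul_assoc]
      rw [Subgroup.mem_normalizer_iff]
      intro a
      rw [hPQ, hPQ,
        show g⁻¹ * (s * a * s⁻¹) * g = s₀ * (g⁻¹ * a * g) * s₀⁻¹ by rw [hsdef]; group]
      exact Subgroup.mem_normalizer_iff.mp hsQ _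
    rw [show Nat.card (P : Subgroup G) = (Finset.univ.filter fun x => x ∈ (P : Subgroup G)).card by
      rw [Nat.card_eq_fintype_card, ← Fintype.card_subtype]]
    refine (Finset.card_bij (fun x _ => s * x) ?_ (fun a _ b _ e => mul_left_cancel e) ?_).symm
    · intro x hx
      have hxP := (Finset.mem_filter.mp hx).2
      refine Finset.mem_filter.mpr ⟨(hInvm _).mpr (orderOf_eq_prime ?_ fun e => ?_),
        (normalizer _).mul_mem (Finset.mem_filter.mp hsI).2 (Subgroup.le_normalizer hxP)⟩
      · rw [pow_two]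
        calc s * x * (s * x) = s * x * s⁻¹ * x := by rw [inv_of_orderOf_two hs2]; group
          _ = 1 := by rw [hinvert P s hsI x hxP, inv_mul_cancel]
      · have hsP : s ∈ (P : Subgroup G) := by
          rw [eq_inv_of_mul_eq_one_left e]; exact (P : Subgroup G).inv_mem hxP
        have hs' := eq_one_of_pow (exists_pow_of_mem P hsP)
          (by rw [hs2]; exact (Nat.coprime_primes Nat.prime_two hp.out).mpr (Ne.symm hp2))
        rw [hs', orderOf_one] at hs2; omega
    · intro t ht
      refine ⟨s * t, Finset.mem_filter.mpr ⟨Finset.mem_univ _, hcP P _ fun a ha => ?_⟩, by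
        rw [← mul_assoc, sq_of_orderOf_two hs2, one_mul]⟩
      rw [← mul_inv_eq_iff_eq_mul]
      calc s * t * a * (s * t)⁻¹ = s * (t * a * t⁻¹) * s⁻¹ := by group
        _ = s * a⁻¹ * s⁻¹ := by rw [hinvert P t ht a ha]
        _ = a := by rw [hinvert P s hsI _ ((P : Subgroup G).inv_mem ha), inv_inv]
  have hXc : ∀ P : Sylow p G, (X P).card = Nat.card (P : Subgroup G) - 1 := by
    intro P
    have e : X P = (Finset.univ.filter fun x => x ∈ (P : Subgroup G)).erase 1 := by
      ext x; simp [X, and_comm]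
    rw [e, Finset.card_erase_of_mem (by simp), Nat.card_eq_fintype_card, Fintype.card_subtype]
  set P := Nat.card (P₀ : Subgroup G) with hPdef
  have hPall : ∀ Q : Sylow p G, Nat.card (Q : Subgroup G) = P := fun Q => by
    rw [hPdef, Q.card_eq_multiplicity, P₀.card_eq_multiplicity]
  rw [Finset.sum_congr rfl (fun Q _ => show (X Q).card * (I Q).card = (P - 1) * P by rw [hXc, hIcard, hPall]),
    Finset.sum_const, smul_eq_mul, Finset.card_univ, ← Nat.card_eq_fintype_card, hPc] at hPairs2
  have hpP : p ∣ P := by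
    obtain ⟨j, hj⟩ := P₀.2.exists_card_eq
    rw [← hPdef] at hj
    rcases j with _ | j
    · exact absurd (Subgroup.card_eq_one.mp (by rw [← hPdef, hj, pow_zero])) (sylow_ne_bot h P₀)
    · rw [hj, pow_succ]; exact dvd_mul_left p _
  have hd : p ∣ Inv.card - T.card := Nat.dvd_sub (hpP.trans hPInv) hTd
  obtain ⟨a, ha⟩ := hPInv
  have key : a * (Inv.card - T.card) = Nat.card (Sylow p G) * (P - 1) := by
    refine Nat.eq_of_mul_eq_mul_left (show 0 < P by rw [hPdef]; exact Nat.card_pos) ?_
    calc P * (a * (Inv.card - T.card)) = Inv.card * (Inv.card - T.card) := by rw [ha]; ring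
      _ = _ := by rw [hPairs2]; ring
  have hd2 : p ∣ Nat.card (Sylow p G) * (P - 1) := key ▸ hd.mul_left a
  rcases hp.out.dvd_mul.mp hd2 with e | e
  · exact not_dvd_card_sylow p G e
  · have hP1 : 1 ≤ P := by rw [hPdef]; exact Nat.card_pos
    have := Nat.dvd_sub hpP e
    rw [Nat.sub_sub_self hP1] at this
    exact hp.out.ne_one (Nat.dvd_one.mp this)

end CfsgLib.CycSyl
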