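/-
An involution centralising a Sylow `p`-subgroup: the commuting graph on involutions is then a regular friendship
graph, which does not exist.
-/
import Mathlib
import Cfsg.Agent.Lib.CyclicSylowAbelian.Central
import Cfsg.Agent.Lib.CyclicSylowAbelian.Trichotomy

set_option autoImplicit false

open Subgroup Cfsg
open scoped Pointwise

namespace CfsgLib.CycSyl

universe u

/-- No finite relation is symmetric irreflexive with constant degree at least `3` and exactly one common neighbour
for every pair of distinct points. -/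
theorem no_regular_friendship {V : Type u} [Fintype V] [DecidableEq V] [Nonempty V] (R : V → V → Prop)
    [DecidableRel R] (hsymm : ∀ a b, R a b → R b a) (hirr : ∀ a, ¬ R a a) (k : ℕ) (hk : 3 ≤ k)
    (hdeg : ∀ a, (Finset.univ.filter (R a)).card = k)
    (hone : ∀ a b, a ≠ b → (Finset.univ.filter (fun c => R a c ∧ R c b)).card = 1) : False := by
  classical
  obtain ⟨r, hr, hrd⟩ := Nat.exists_prime_and_dvd (n := k - 1) (by omega)
  have := Fact.mk hr
  have hk1 : (k : ZMod r) = 1 := by
    have h0 : ((k - 1 : ℕ) : ZMod r) = 0 := (ZMod.natCast_eq_zero_iff (k - 1) r).mpr hrd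
    rw [Nat.cast_sub (by omega), Nat.cast_one, sub_eq_zero] at h0
    exact h0
  let A : Matrix V V (ZMod r) := Matrix.of fun a b => if R a b then 1 else 0
  let J : Matrix V V (ZMod r) := Matrix.of fun _ _ => 1
  have hA2 : A * A = J := by
    ext a b
    rw [Matrix.mul_apply]
    show ∑ c, (if R a c then (1 : ZMod r) else 0) * (if R c b then 1 else 0) = 1
    simp only [← ite_and, ite_mul, one_mul, zero_mul]
    rw [Finset.sum_boole]
    by_cases hab : a = b
    · subst hab
      rw [show (Finset.univ.filter fun c => R a c ∧ R c a) = Finset.univ.filter (R a) from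
        Finset.filter_congr fun c _ => ⟨fun e => e.1, fun e => ⟨e, hsymm _ _ e⟩⟩, hdeg, hk1]
    · rw [hone a b hab, Nat.cast_one]
  have hAJ : A * J = J := by
    ext a b
    rw [Matrix.mul_apply]
    show ∑ c, (if R a c then (1 : ZMod r) else 0) * 1 = 1
    simp only [mul_one]
    rw [Finset.sum_boole, hdeg, hk1]
  have hJJ : J * J = (Fintype.card V : ZMod r) • J := by
    ext a b
    rw [Matrix.mul_apply, Matrix.smul_apply]
    show ∑ _c : V, (1 : ZMod r) * 1 = _
    simp [J]
  have hn : (Fintype.card V : ZMod r) = 1 := by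
    have e : J * J = J := by
      calc J * J = A * (A * J) := by rw [← hA2, Matrix.mul_assoc, hA2]
        _ = J := by rw [hAJ, hAJ]
    rw [hJJ] at e
    obtain ⟨v⟩ := (inferInstance : Nonempty V)
    have e2 := congrFun (congrFun e v) v
    simpa [J, Matrix.smul_apply] using e2
  have hpow : ∀ i : ℕ, A ^ (i + 2) = J := by
    intro i
    induction i with
    | zero => rw [pow_two, hA2]
    | succ i ih => rw [show i + 1 + 2 = (i + 2) + 1 by ring, pow_succ', ih, hAJ]
  have h := ZMod.trace_pow_card A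
  obtain ⟨i, hi⟩ := Nat.exists_eq_add_of_le' hr.two_le
  have h0 : Matrix.trace A = 0 := by
    refine Finset.sum_eq_zero fun a _ => ?_
    show (if R a a then (1 : ZMod r) else 0) = 0
    rw [if_neg (hirr a)]
  rw [h0, zero_pow hr.ne_zero, show A ^ r = J from (congrArg (A ^ ·) hi).trans (hpow i)] at h
  have h1 : Matrix.trace J = (Fintype.card V : ZMod r) := by simp [Matrix.trace, J]
  rw [h1, hn] at h
  exact one_ne_zero h

variable {G : Type u} [Group G] [Finite G] {p : ℕ} [hp : Fact p.Prime]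

theorem friendship_contra (h : Hyp p G) (hp2 : p ≠ 2) (P : Sylow p G) {x : G} (hx : orderOf x = 2)
    (hxc : ∀ a ∈ (P : Subgroup G), x * a = a * x) : False := by
  classical
  have : Fintype G := Fintype.ofFinite G
  obtain ⟨-, -, hconj, hfour, t, ht, htx, htP⟩ := central_structure h P Nat.prime_two (Ne.symm hp2) hx hxc
  have h2p : ∀ u : G, orderOf u = 2 → (orderOf u).Coprime p := fun u hu => by
    rw [hu]; exact (Nat.coprime_primes Nat.prime_two hp.out).mpr (Ne.symm hp2)
  have horder : ∀ g u : G, orderOf (g * u * g⁻¹) = orderOf u := fun g u => by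
    rw [← MulAut.conj_apply, MulEquiv.orderOf_eq]
  -- every Sylow subgroup has an involution centralising it
  have hz : ∀ Q : Sylow p G, ∃ z : G, orderOf z = 2 ∧ ∀ a ∈ (Q : Subgroup G), z * a = a * z := by
    intro Q
    obtain ⟨g, rfl⟩ := MulAction.exists_smul_eq G P Q
    refine ⟨g * x * g⁻¹, by rw [horder, hx], fun a ha => ?_⟩
    rw [Sylow.coe_subgroup_smul, Subgroup.mem_pointwise_smul_iff_inv_smul_mem] at ha
    have ha' : g⁻¹ * a * g ∈ (P : Subgroup G) := by simpa [MulAut.conj_inv_apply, mul_assoc] using ha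
    calc g * x * g⁻¹ * a = g * (x * (g⁻¹ * a * g)) * g⁻¹ := by group
      _ = g * ((g⁻¹ * a * g) * x) * g⁻¹ := by rw [hxc _ ha']
      _ = a * (g * x * g⁻¹) := by group
  let R : G → G → Prop := fun a b => a ≠ b ∧ a * b = b * a
  have hcanon : ∀ s u : G, orderOf s = 2 → orderOf u = 2 → ¬ s * u = u * s →
      ∃ z : G, orderOf z = 2 ∧ R s z ∧ R u z ∧
        ∀ w : G, orderOf w = 2 → s * w = w * s → u * w = w * u → w * z = z * w := by
    intro s u hs hu hne
    rcases product_cases h.hab hp2 hs hu hne with ⟨i, hi, hsi, hui⟩ | ⟨⟨k, hk⟩, hx1⟩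
    · refine ⟨_, hi, ⟨fun e => hne ?_, hsi⟩, ⟨fun e => hne ?_, hui⟩, fun w hw hsw huw => ?_⟩
      · have e' := hui; rw [← e] at e'; exact e'.symm
      · have e' := hsi; rw [← e] at e'; exact e'
      · exact ((show Commute w (s * u) from (Commute.mul_left (show Commute s w from hsw) huw).symm).pow_right i).eq
    · obtain ⟨j, -, hj⟩ := (Nat.dvd_prime_pow hp.out).mp (orderOf_dvd_of_pow_eq_one hk)
      obtain ⟨Q, hQ⟩ := (IsPGroup.of_card (p := p) (n := j) (G := zpowers (s * u)) (by rw [Nat.card_zpowers, hj])).exists_le_sylow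
      have hxQ : s * u ∈ (Q : Subgroup G) := hQ (mem_zpowers _)
      obtain ⟨z, hz1, hz2⟩ := hz Q
      have hsN : s ∈ normalizer ((Q : Subgroup G) : Set G) := mem_normalizer_of_conj h Q hxQ hx1 (by
        rw [conj_mul_invol hs hu]; exact (zpowers _).inv_mem (mem_zpowers _))
      have huN : u ∈ normalizer ((Q : Subgroup G) : Set G) := by
        rw [show u = s * (s * u) by rw [← mul_assoc, sq_of_orderOf_two hs, one_mul]]
        exact (normalizer _).mul_mem hsN (Subgroup.le_normalizer hxQ)
      have hcz := central_of_centralizes h Q (h2p z hz1) hz2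
      refine ⟨z, hz1, ⟨fun e => hne ?_, hcz s hsN⟩, ⟨fun e => hne ?_, hcz u huN⟩, fun w hw hsw huw => ?_⟩
      · have e' := hcz u huN; rw [← e] at e'; exact e'.symm
      · have e' := hcz s hsN; rw [← e] at e'; exact e'
      · exact hcz w (mem_normalizer_of_commute h Q hxQ hx1
          (Commute.mul_left (show Commute s w from hsw) huw).symm.eq)
  have hthird : ∀ s u : G, orderOf s = 2 → orderOf u = 2 → s ≠ u → s * u = u * s →
      ∀ w : G, orderOf w = 2 → R s w → R u w → w = s * u := by
    intro s u hs hu hne hcu w hw hsw huw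
    rcases hfour s u w hs hu hw hcu hsw.2 huw.2 hne with e | e | e
    · exact absurd e.symm hsw.1
    · exact absurd e.symm huw.1
    · exact e
  -- uniqueness of common neighbours
  have huniq : ∀ s u : G, orderOf s = 2 → orderOf u = 2 → s ≠ u → ∀ w w' : G, orderOf w = 2 → orderOf w' = 2 →
      R s w → R u w → R s w' → R u w' → w = w' := by
    intro s u hs hu hne w w' hw hw' h1 h2 h3 h4
    by_cases hcu : s * u = u * s
    · rw [hthird s u hs hu hne hcu w hw h1 h2, hthird s u hs hu hne hcu w' hw' h3 h4]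
    by_contra hww
    by_cases hcw : w * w' = w' * w
    · exact hne ((hthird w w' hw hw' hww hcw s hs ⟨h1.1.symm, h1.2.symm⟩ ⟨h3.1.symm, h3.2.symm⟩).trans
        (hthird w w' hw hw' hww hcw u hu ⟨h2.1.symm, h2.2.symm⟩ ⟨h4.1.symm, h4.2.symm⟩).symm)
    · obtain ⟨z, hz1, hwz, hw'z, hzc⟩ := hcanon w w' hw hw' hcw
      have key : ∀ v : G, orderOf v = 2 → R v w → R v w' → v = z := by
        intro v hv hvw hvw'
        by_contra hvz
        have hcvz := hzc v hv hvw.2.symm hvw'.2.symm
        exact hww ((hthird v z hv hz1 hvz hcvz w hw hvw ⟨hwz.1.symm, hwz.2.symm⟩).trans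
          (hthird v z hv hz1 hvz hcvz w' hw' hvw' ⟨hw'z.1.symm, hw'z.2.symm⟩).symm)
      exact hne ((key s hs h1 h3).trans (key u hu h2 h4).symm)
  -- the graph
  let V := {u : G // orderOf u = 2}
  have : Nonempty V := ⟨⟨x, hx⟩⟩
  let R' : V → V → Prop := fun a b => R a.1 b.1
  let k := (Finset.univ.filter (R' ⟨x, hx⟩)).card
  refine no_regular_friendship R' (fun a b e => ⟨e.1.symm, e.2.symm⟩) (fun a e => e.1 rfl) k ?_ ?_ ?_
  · -- three conjugates of `t` under `P` commute with `x`
    obtain ⟨z₁, hz₁, hz₁1⟩ := (P : Subgroup G).bot_or_exists_ne_one.resolve_left (sylow_ne_bot h P)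
    obtain ⟨i, hi⟩ := exists_pow_order_p P.2 hz₁ hz₁1
    set z := z₁ ^ i with hzdef
    have hzP : z ∈ (P : Subgroup G) := (P : Subgroup G).pow_mem hz₁ i
    have hz1 : z ≠ 1 := fun e => hp.out.ne_one (by rw [← hi, e, orderOf_one])
    have hp3 : 3 ≤ p := by have := hp.out.two_le; omega
    have hmem : ∀ j : ℕ, orderOf (z ^ j * t * (z ^ j)⁻¹) = 2 ∧ R x (z ^ j * t * (z ^ j)⁻¹) := by
      intro j
      refine ⟨by rw [horder, ht], fun e => htP ?_, ?_⟩
      · have htx' : t = x := by
          have hc : Commute x (z ^ j) := (show Commute x z from hxc z hzP).pow_right j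
          calc t = (z ^ j)⁻¹ * (z ^ j * t * (z ^ j)⁻¹) * z ^ j := by group
            _ = (z ^ j)⁻¹ * (x * z ^ j) := by rw [← e, mul_assoc]
            _ = x := by rw [hc.eq, inv_mul_cancel_left]
        rw [htx']; exact hxc
      · have h1 : Commute x (z ^ j) := (show Commute x z from hxc z hzP).pow_right j
        exact ((h1.mul_right (show Commute x t from htx.symm)).mul_right h1.inv_right).eq
    refine le_trans (le_of_eq (Fintype.card_fin 3).symm) ?_
    rw [← Finset.card_univ]
    refine Finset.card_le_card_of_injOn (fun j : Fin 3 => (⟨z ^ (j : ℕ) * t * (z ^ (j : ℕ))⁻¹, (hmem j).1⟩ : V))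
      (fun j _ => by simpa [R'] using (hmem j).2) ?_
    intro a _ b _ e
    have e' : z ^ (a : ℕ) * t * (z ^ (a : ℕ))⁻¹ = z ^ (b : ℕ) * t * (z ^ (b : ℕ))⁻¹ := congrArg Subtype.val e
    suffices key : ∀ c d : ℕ, c < d → d < p → z ^ c * t * (z ^ c)⁻¹ ≠ z ^ d * t * (z ^ d)⁻¹ by
      rcases lt_trichotomy (a : ℕ) (b : ℕ) with hl | hl | hl
      · exact absurd e' (key _ _ hl (by omega))
      · exact Fin.ext hl
      · exact absurd e'.symm (key _ _ hl (by omega))
    intro c d hcd hdp ee
    set w := z ^ (d - c) with hw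
    have hd : z ^ d = z ^ c * w := by rw [hw, ← pow_add]; congr 1; omega
    have htw : t * w = w * t := by
      have e2 : t = w * t * w⁻¹ := by
        calc t = (z ^ c)⁻¹ * (z ^ c * t * (z ^ c)⁻¹) * z ^ c := by group
          _ = (z ^ c)⁻¹ * ((z ^ c * w) * t * (z ^ c * w)⁻¹) * z ^ c := by rw [ee, hd]
          _ = w * t * w⁻¹ := by group
      nth_rewrite 1 [e2]
      rw [inv_mul_cancel_right]
    have hw1 : w ≠ 1 := fun e1 => by
      have := Nat.le_of_dvd (by omega) (orderOf_dvd_of_pow_eq_one e1)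
      rw [hi] at this; omega
    exact htP (centralizes_of_commute h P ((P : Subgroup G).pow_mem hzP _) hw1 (h2p t ht) htw)
  · intro a
    obtain ⟨g, hg⟩ := isConj_iff.mp (hconj a.1 a.2)
    refine (Finset.card_bij (fun (b : V) _ => (⟨g * b.1 * g⁻¹, by rw [horder, b.2]⟩ : V)) ?_ ?_ ?_).symm
    · intro b hb
      simp only [Finset.mem_filter, Finset.mem_univ, true_and, R', R] at hb ⊢
      refine ⟨fun e => hb.1 (mul_left_cancel (mul_right_cancel (hg.trans e))), ?_⟩
      rw [← hg]
      calc g * x * g⁻¹ * (g * b.1 * g⁻¹) = g * (x * b.1) * g⁻¹ := by group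
        _ = g * (b.1 * x) * g⁻¹ := by rw [hb.2]
        _ = _ := by group
    · intro b _ c _ e
      exact Subtype.ext (mul_left_cancel (mul_right_cancel (congrArg Subtype.val e)))
    · intro c hc
      simp only [Finset.mem_filter, Finset.mem_univ, true_and, R', R] at hc ⊢
      refine ⟨⟨g⁻¹ * c.1 * g, ?_⟩, ⟨fun e => hc.1 ?_, ?_⟩, Subtype.ext (by group)⟩
      · have := horder g⁻¹ c.1
        rw [inv_inv] at this; rw [this, c.2]
      · rw [← hg, e]; group
      · calc x * (g⁻¹ * c.1 * g) = g⁻¹ * ((g * x * g⁻¹) * c.1) * g := by group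
          _ = g⁻¹ * (c.1 * (g * x * g⁻¹)) * g := by rw [hg, hc.2]
          _ = g⁻¹ * c.1 * g * x := by group
  · intro a b hab
    have hab' : a.1 ≠ b.1 := fun e => hab (Subtype.ext e)
    rw [Finset.card_eq_one]
    obtain ⟨z, hz1, hza, hzb⟩ : ∃ z : G, orderOf z = 2 ∧ R a.1 z ∧ R b.1 z := by
      by_cases hc : a.1 * b.1 = b.1 * a.1
      · refine ⟨a.1 * b.1, orderOf_eq_prime ?_ ?_, ⟨?_, ?_⟩, ⟨?_, ?_⟩⟩
        · rw [(show Commute a.1 b.1 from hc).mul_pow, pow_two, pow_two, sq_of_orderOf_two a.2, sq_of_orderOf_two b.2, one_mul]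
        · intro e; exact hab' ((eq_inv_of_mul_eq_one_left e).trans (inv_of_orderOf_two b.2))
        · intro e
          have h1 : b.1 = 1 := mul_eq_left.mp e.symm
          have := b.2; rw [h1, orderOf_one] at this; omega
        · exact ((Commute.refl a.1).mul_right hc).eq
        · intro e
          have h1 : a.1 = 1 := mul_eq_right.mp e.symm
          have := a.2; rw [h1, orderOf_one] at this; omega
        · exact ((show Commute b.1 a.1 from hc.symm).mul_right (Commute.refl b.1)).eq
      · obtain ⟨z, h1, h2, h3, -⟩ := hcanon a.1 b.1 a.2 b.2 hc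
        exact ⟨z, h1, h2, h3⟩
    refine ⟨⟨z, hz1⟩, ?_⟩
    ext c
    simp only [Finset.mem_filter, Finset.mem_univ, true_and, Finset.mem_singleton, R']
    constructor
    · rintro ⟨h1, h2⟩
      exact Subtype.ext (huniq a.1 b.1 a.2 b.2 hab' c.1 z c.2 hz1 h1 ⟨h2.1.symm, h2.2.symm⟩ hza hzb)
    · rintro rfl
      exact ⟨hza, hzb.1.symm, hzb.2.symm⟩

end CfsgLib.CycSyl
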